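import Cfsg.Agent.J4Type.Orbits.Model
import Cfsg.Agent.J4Type.Rep.GlueBase

/-!
# The model of a group of Janko-four type in the form of the certificate layer
-/

set_option autoImplicit false

open Cfsg Subgroup

namespace Cfsg.Agent.J4Type.Orbits

variable {V : Type*} [AddCommGroup V]

theorem model_of_rep {Γ Γ₀ : Subgroup (Equiv.Perm V)} {q : V → ZMod 2} {B : List V}
    {gx gy gf gw gt : Equiv.Perm V} (M : Rep.Model Γ Γ₀ q B gx gy gf gw gt) : Model B Γ Γ₀ q := by
  have huniq : ∀ {γ δ : Equiv.Perm V} {N : List ℕ}, PActs B γ N → Rep.PActs B δ N → γ = δ := by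
    intro γ δ N h k
    refine Equiv.ext fun v => ?_
    obtain ⟨r, rfl⟩ := M.bij.2 v
    exact (h r).trans (k r).symm
  refine ⟨M.two, M.length, M.bij, ?_, ?_, ?_, M.card0, M.form⟩
  · intro N hN
    simp only [allGens, List.mem_cons, List.not_mem_nil, or_false] at hN
    rcases hN with rfl | rfl | rfl | rfl
    exacts [⟨gx, M.actX⟩, ⟨gy, M.actY⟩, ⟨gf, M.actF⟩, ⟨gt, M.actT⟩]
  · refine M.closure0.trans (congrArg _ (Set.ext fun γ => ?_))
    simp only [Set.mem_insert_iff, Set.mem_singleton_iff, Set.mem_setOf_eq]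
    constructor
    · rintro (rfl | rfl | rfl)
      exacts [⟨Rep.Xm, by simp [innerGens], M.actX⟩, ⟨Rep.Ym, by simp [innerGens], M.actY⟩,
        ⟨Rep.F0, by simp [innerGens], M.actF⟩]
    · rintro ⟨N, hN, h⟩
      simp only [innerGens, List.mem_cons, List.not_mem_nil, or_false] at hN
      rcases hN with rfl | rfl | rfl
      exacts [Or.inl (huniq h M.actX), Or.inr (Or.inl (huniq h M.actY)), Or.inr (Or.inr (huniq h M.actF))]
  · refine M.closure.trans (congrArg _ (Set.ext fun γ => ?_))
    simp only [Set.mem_insert_iff, Set.mem_singleton_iff, Set.mem_setOf_eq]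
    constructor
    · rintro (rfl | rfl | rfl | rfl)
      exacts [⟨Rep.Xm, by simp [allGens], M.actX⟩, ⟨Rep.Ym, by simp [allGens], M.actY⟩,
        ⟨Rep.F0, by simp [allGens], M.actF⟩, ⟨Rep.Sg, by simp [allGens], M.actT⟩]
    · rintro ⟨N, hN, h⟩
      simp only [allGens, List.mem_cons, List.not_mem_nil, or_false] at hN
      rcases hN with rfl | rfl | rfl | rfl
      exacts [Or.inl (huniq h M.actX), Or.inr (Or.inl (huniq h M.actY)),
        Or.inr (Or.inr (Or.inl (huniq h M.actF))), Or.inr (Or.inr (Or.inr (huniq h M.actT)))]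

/-- **The certificate model of a group of Janko-four type.** -/
theorem exists_model_janko {G : Type*} [Group G] [Finite G] {z : G} {P : Subgroup G}
    (hJ : IsOfJankoFourTypeWith z P) : ∃ B : List (Base.V z),
      Model B (Base.rhoM z P).range (gammaZero (Base.rhoM z P)) (Base.qf z) := by
  obtain ⟨B, gx, gy, gf, gw, gt, M⟩ := Rep.exists_model_base hJ
  exact ⟨B, model_of_rep M⟩

end Cfsg.Agent.J4Type.Orbits
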