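import Cfsg.Agent.J4Type.Orbits.WitChecks

/-!
# The fixed space and the commutator space of the representative involution
-/

set_option autoImplicit false
set_option Elab.async false
set_option maxRecDepth 100000

namespace Cfsg.Agent.J4Type.Orbits

open Rep

/-- A basis of the fixed space of the representative involution. -/
def fixBasis : List ℕ := [1, 6, 80, 160, 264, 570, 1024, 2048]

/-- Preimages of the commutator space. -/
def dPre : List ℕ := [0, 2, 8, 10, 16, 18, 24, 26, 32, 34, 40, 42, 48, 50, 56, 58]

theorem perp_ok : ((fixBasis.all fun u => Nat.blt u 4096 && Nat.beq (app Wit.tau u) u) &&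
    (dPre.all fun v => Nat.blt v 4096) &&
    (List.range 4096).all fun x => fixBasis.any (fun u => bv x u) ||
      dPre.any fun v => Nat.beq x (dM Wit.tau v)) = true := by decide +kernel

theorem scalar_sum : ((List.range 4096).all fun r =>
    Nat.beq (Nat.xor r (Nat.xor (app Wm r) (app Wm (app Wm r)))) 0 &&
      Nat.beq (app Wm (app Wm (app Wm r))) r) = true := by decide +kernel

end Cfsg.Agent.J4Type.Orbits
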