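import Cfsg.Agent.J4Type.Orbits.Normal
import Cfsg.Agent.J4Type.Orbits.PerpData
import Mathlib.GroupTheory.Perm.Cycle.Type

/-!
# The facts on involutions of the model that the first fusion argument needs
-/

set_option autoImplicit false
set_option maxRecDepth 100000

namespace Cfsg.Agent.J4Type

variable {V : Type*} [AddCommGroup V]

/-- Facts on the involutions of `Γ` acting on `V`; `ω` is the scalar. -/
structure LinFusion (Γ Γ₀ : Subgroup (Equiv.Perm V)) (q : V → ZMod 2) (ω : Equiv.Perm V) : Prop where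
  mem_scalar : ω ∈ Γ₀
  scalar_comm : ∀ γ ∈ Γ₀, γ * ω = ω * γ
  scalar_sum : ∀ v, v + (ω v + ω (ω v)) = 0
  iso : ∀ t ∈ Γ₀, t * t = 1 → ∀ v, q (v + t v) = 0
  big : ∀ t ∈ Γ₀, t ≠ 1 → ∃ v, t v ≠ v
  five : ∀ t ∈ Γ₀, t * t = 1 → t ≠ 1 → ∃ F : Fin 5 → V, (∀ i, t (F i) = F i) ∧
    ∀ i j, i ≠ j → polar2 q (F i) (F j) = 1
  perp : ∀ t ∈ Γ₀, t * t = 1 → t ≠ 1 → ∀ x, (∀ u, t u = u → polar2 q x u = 0) → ∃ v, x = v + t v
  move : ∀ t ∈ Γ₀, t * t = 1 → t ≠ 1 → ∀ k ∈ Γ, k ≠ 1 → k ≠ t → ∃ v u, t v = v ∧ t u = u ∧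
    k v ≠ v ∧ k u ≠ u ∧ k (v + u) ≠ v + u
  swap : ∀ t ∈ Γ₀, t * t = 1 → t ≠ 1 → ∀ v, polar2 q v (ω (v + t v)) = 1 → ∃ k ∈ Γ₀, k * k = t ∧
    t (v + k v) ≠ v + k v ∧ polar2 q (v + k v) (ω (v + k v + t (v + k v))) = 0
  outer : ∀ t ∈ Γ, t ∉ Γ₀ → t * t = 1 → ∃ a b c : V,
    ∀ x ∈ [a, b, c, a + b, a + c, b + c, a + (b + c)], t x ≠ x ∧ q (x + t x) = 0

namespace Orbits

open Rep Wit

theorem good_stabIn {M : List ℕ} (h : M ∈ stabIn) : goodM M = true := by
  obtain ⟨a, ha, b, hb, rfl⟩ := mem_prodList.1 h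
  rw [← short.eqA] at ha; rw [← short.eqB] at hb
  obtain ⟨wa, -, rfl⟩ := List.mem_map.1 ha; obtain ⟨wb, -, rfl⟩ := List.mem_map.1 hb
  exact good_comp (good_code wa) (good_code wb)

theorem good_stabOut {M : List ℕ} (h : M ∈ stabOut) : goodM M = true := by
  obtain ⟨s, hs, rfl⟩ := List.mem_map.1 h
  rw [← short.outer]
  exact good_comp (good_comp (good_code _) good_Sg) (good_stabIn hs)

end Orbits

namespace Orbits.Model

open Rep Wit

variable {B : List V} {Γ Γ₀ : Subgroup (Equiv.Perm V)} {q : V → ZMod 2} (hM : Model B Γ Γ₀ q)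
include hM

theorem q_preserved {γ : Equiv.Perm V} (hγ : γ ∈ Γ) (v : V) : q (γ v) = q v := by
  rw [hM.gen] at hγ
  have hγ' := hM.mem_closure_gens hγ
  clear hγ
  induction hγ' using Submonoid.closure_induction_left with
  | one => rfl
  | mul_left x hx y _ ih =>
    obtain ⟨M, hm, k⟩ := hx
    rw [Equiv.Perm.mul_apply, ← ih]
    obtain ⟨r, hr, e⟩ := hM.code_cases (y v)
    rw [← e]
    have hc := List.all_eq_true.1 q_inv r (List.mem_range.2 hr)
    simp only [Bool.and_eq_true, Nat.beq_eq] at hc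
    have hg := gens_good
    simp only [Bool.and_eq_true] at hg
    simp only [allGens, List.mem_cons, List.not_mem_nil, or_false] at hm
    obtain ⟨h1, h2⟩ : goodM M = true ∧ qv (app M r) = qv r := by
      rcases hm with rfl | rfl | rfl | rfl
      exacts [⟨hg.1.1.1.1.1, hc.1.1.1⟩, ⟨hg.1.1.1.1.2, hc.1.1.2⟩, ⟨hg.1.1.1.2, hc.1.2⟩, ⟨hg.1.1.2, hc.2⟩]
    rw [k, hM.q_eq _ (app_lt_of_good h1 r), hM.q_eq r hr, h2]

theorem map_add {γ : Equiv.Perm V} (hγ : γ ∈ Γ) (v w : V) : γ (v + w) = γ v + γ w := by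
  obtain ⟨M, -, e⟩ := hM.exists_code hγ
  exact hM.additive e v w

theorem polar_preserved {γ : Equiv.Perm V} (hγ : γ ∈ Γ) (v w : V) :
    polar2 q (γ v) (γ w) = polar2 q v w := by
  rw [polar2, polar2, ← hM.map_add hγ, hM.q_preserved hγ, hM.q_preserved hγ, hM.q_preserved hγ]

theorem d_code {γ : Equiv.Perm V} {M : List ℕ} (e : PActs B γ M) (r : ℕ) :
    lin B r + γ (lin B r) = lin B (dM M r) := by
  rw [e, hM.lin_add]; rfl

/-- An involution fixes a point of the short orbit. -/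
theorem exists_fixed {t : Equiv.Perm V} (ht : t ∈ Γ) (h2 : t * t = 1) :
    ∃ r < 4096, bit Short.orbBits r = true ∧ t (lin B r) = lin B r := by
  classical
  have := hM.fin
  have : Fact (Nat.Prime 2) := ⟨Nat.prime_two⟩
  haveI : Fintype V := Fintype.ofFinite V
  let O : Finset V := (((List.range 4096).filter (bit Short.orbBits)).toFinset).image (lin B)
  have hcard : O.card = 693 := by
    rw [Finset.card_image_of_injOn ?_, List.toFinset_card_of_nodup ((List.nodup_range).filter _), short.count]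
    intro a ha b hb e
    simp only [Finset.mem_coe, List.mem_toFinset, List.mem_filter, List.mem_range] at ha hb
    exact hM.lin_inj ha.1 hb.1 e
  have hinv : ∀ v, v ∈ O → t v ∈ O := by
    intro v hv
    simp only [O, Finset.mem_image, List.mem_toFinset, List.mem_filter, List.mem_range] at hv ⊢
    obtain ⟨r, ⟨hr, hb⟩, rfl⟩ := hv
    obtain ⟨s, hs, hbs, e⟩ := short.invariant hM ht hr hb
    exact ⟨s, ⟨hs, hbs⟩, e.symm⟩
  have hiff : ∀ v, t v ∈ O ↔ v ∈ O := fun v => ⟨fun h => by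
    have := hinv _ h
    rwa [← Equiv.Perm.mul_apply, h2, Equiv.Perm.one_apply] at this, hinv v⟩
  obtain ⟨⟨v, hv⟩, e⟩ := Equiv.Perm.exists_fixed_point_of_prime (p := 2) (n := 1)
    (σ := (Equiv.Perm.subtypePerm t hiff : Equiv.Perm {v // v ∈ O}))
    (by rw [Fintype.card_coe, hcard]; norm_num)
    (by ext ⟨v, hv⟩; simp [pow_two, ← Equiv.Perm.mul_apply, h2])
  simp only [O, Finset.mem_image, List.mem_toFinset, List.mem_filter, List.mem_range] at hv
  obtain ⟨r, ⟨hr, hb⟩, rfl⟩ := hv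
  exact ⟨r, hr, hb, congrArg Subtype.val e⟩

/-- The representative involution as a permutation. -/
theorem exists_tau : ∃ τ ∈ Γ₀, PActs B τ tau ∧ τ * τ = 1 ∧ τ ≠ 1 := by
  obtain ⟨τ, hτ, e⟩ := hM.word wordTau
  rw [wordTau_eq] at e
  have h := tau_ok
  simp only [Bool.and_eq_true, Bool.not_eq_true'] at h
  refine ⟨τ, hτ, e, hM.acts_eq (eqM_iff.1 h.1.1.1.1.1 ▸ e.mul e) hM.acts_idM, fun h1 => ?_⟩
  have he := hM.code_unique e (h1 ▸ hM.acts_idM) (wordTau_eq ▸ good_code wordTau) good_idM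
  rw [he, eqM_iff.2 rfl] at h
  exact Bool.noConfusion h.1.1.1.1.2

/-- All involutions of the inner group are conjugate. -/
theorem conj_tau {t τ : Equiv.Perm V} (ht : t ∈ Γ₀) (h2 : t * t = 1) (h1 : t ≠ 1) (eτ : PActs B τ tau) :
    ∃ h ∈ Γ₀, h * t * h⁻¹ = τ := by
  obtain ⟨r, hr, hb, hfix⟩ := hM.exists_fixed (hM.le ht) h2
  obtain ⟨δ, hδ, hd⟩ := short.reach hM hb
  set s := δ⁻¹ * t * δ with hs
  have hs0 : s ∈ Γ₀ := mul_mem (mul_mem (inv_mem hδ) ht) hδ
  have hsfix : s (lin B Short.v0) = lin B Short.v0 := by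
    rw [hs, Equiv.Perm.mul_apply, Equiv.Perm.mul_apply, hd, hfix, Equiv.Perm.inv_eq_iff_eq, hd]
  have hs2 : s * s = 1 := by
    rw [hs, show δ⁻¹ * t * δ * (δ⁻¹ * t * δ) = δ⁻¹ * (t * t) * δ by group, h2]; group
  obtain ⟨M, hm, e⟩ := short.stab_inner hM hs0 hsfix
  have := List.all_eq_true.1 conj_ok M hm
  simp only [Bool.or_eq_true, Bool.not_eq_true', List.any_eq_true, eqM_iff, sqOne] at this
  have gM : goodM M = true := good_stabIn hm
  rcases this with (h | h) | ⟨c, hc, hcomm⟩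
  · refine absurd ?_ h1
    have hs1 : s = 1 := hM.acts_eq e (h ▸ hM.acts_idM)
    rw [hs] at hs1
    rw [show t = δ * (δ⁻¹ * t * δ) * δ⁻¹ by group, hs1]; group
  · have := hM.code_unique (hs2 ▸ e.mul e) hM.acts_idM (good_comp gM gM) good_idM
    rw [this, eqM_iff.2 rfl] at h
    exact Bool.noConfusion h
  · rw [← conjCodes_eq] at hc
    obtain ⟨w, -, rfl⟩ := List.mem_map.1 hc
    obtain ⟨η, hη, eη⟩ := hM.word w
    have hcon : η * s = τ * η := hM.acts_eq (hcomm ▸ eη.mul e) (eτ.mul eη)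
    refine ⟨η * δ⁻¹, mul_mem hη (inv_mem hδ), ?_⟩
    rw [show η * δ⁻¹ * t * (η * δ⁻¹)⁻¹ = η * s * η⁻¹ by rw [hs]; group, hcon, mul_inv_cancel_right]

/-- **The fusion facts hold in the model.** -/
theorem linFusion : ∃ ω : Equiv.Perm V, PActs B ω Wm ∧ LinFusion Γ Γ₀ q ω := by
  classical
  obtain ⟨ω, hω, eω⟩ := hM.word wordW
  rw [wordW_eq] at eω
  obtain ⟨τ, hτ, eτ, hτ2, -⟩ := hM.exists_tau
  have hcomm : ∀ γ ∈ Γ₀, γ * ω = ω * γ := fun γ hγ => hM.commute_W eω hγ
  have comm_app : ∀ γ ∈ Γ₀, ∀ v, γ (ω v) = ω (γ v) := fun γ hγ v => by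
    rw [← Equiv.Perm.mul_apply, hcomm γ hγ]; rfl
  have gW : goodM Wm = true := wordW_eq ▸ good_code wordW
  have gτ : goodM tau = true := wordTau_eq ▸ good_code wordTau
  have hsum : ∀ v, v + (ω v + ω (ω v)) = 0 ∧ ω (ω (ω v)) = v := by
    intro v
    obtain ⟨r, hr, rfl⟩ := hM.code_cases v
    have := List.all_eq_true.1 scalar_sum r (List.mem_range.2 hr)
    simp only [Bool.and_eq_true, Nat.beq_eq] at this
    rw [eω, eω, eω]
    refine ⟨?_, congrArg (lin B) this.2⟩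
    rw [hM.lin_add, hM.lin_add]
    exact (congrArg (lin B) this.1).trans (lin_zero B)
  -- transport to the representative
  have red : ∀ t ∈ Γ₀, t * t = 1 → t ≠ 1 → ∃ h ∈ Γ₀, h * t * h⁻¹ = τ ∧ ∀ v, h (t v) = τ (h v) :=
    fun t ht h2 h1 => by
      obtain ⟨h, hh, e⟩ := hM.conj_tau ht h2 h1 eτ
      exact ⟨h, hh, e, fun v => by
        rw [← e, Equiv.Perm.mul_apply, Equiv.Perm.mul_apply, Equiv.Perm.coe_inv, Equiv.symm_apply_apply]⟩
  have back : ∀ {h t : Equiv.Perm V}, (∀ v, h (t v) = τ (h v)) → ∀ {w}, τ w = w → t (h⁻¹ w) = h⁻¹ w :=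
    fun {h t} hc {w} hw => h.injective (by
      rw [hc, Equiv.Perm.coe_inv, Equiv.apply_symm_apply, hw])
  have iso : ∀ v, q (v + τ v) = 0 := by
    intro v
    obtain ⟨r, hr, rfl⟩ := hM.code_cases v
    have h := List.all_eq_true.1 iso_ok r (List.mem_range.2 hr)
    simp only [Bool.not_eq_true'] at h
    rw [hM.d_code eτ, hM.q_code ?_, h]
    · rfl
    · exact Nat.xor_lt_two_pow (n := 12) hr (app_lt_of_good gτ r)
  refine ⟨ω, eω, ⟨hω, hcomm, fun v => (hsum v).1, ?_, ?_, ?_, ?_, ?_, ?_, ?_⟩⟩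
  · intro t ht h2 v
    by_cases h1 : t = 1
    · rw [h1, Equiv.Perm.one_apply, hM.two, hM.q_zero]
    obtain ⟨h, hh, -, hc⟩ := red t ht h2 h1
    rw [← hM.q_preserved (hM.le hh), hM.map_add (hM.le hh), hc]
    exact iso _
  · intro t _ h1
    by_contra! hall
    exact h1 (Equiv.ext fun v => by rw [hall v, Equiv.Perm.one_apply])
  · intro t ht h2 h1
    obtain ⟨h, hh, -, hc⟩ := red t ht h2 h1
    have hF := five_ok
    simp only [Bool.and_eq_true, List.all_eq_true, Nat.beq_eq, Nat.blt_eq, decide_eq_true_eq] at hF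
    obtain ⟨⟨hlen, hfx⟩, hdist⟩ := hF
    refine ⟨fun i => h⁻¹ (lin B (Wit.five[i.1]'(by rw [hlen]; exact i.2))), fun i => back hc ?_, fun i j hij => ?_⟩
    · rw [eτ]; exact congrArg (lin B) (hfx _ (List.getElem_mem _)).2
    · rw [hM.polar_preserved (hM.le (inv_mem hh)),
        hM.polar_code (hfx _ (List.getElem_mem _)).1 (hfx _ (List.getElem_mem _)).1, if_pos]
      have hall : ∀ a : Fin 5, ∀ b : Fin 5, a ≠ b → bv (Wit.five.getD a 0) (Wit.five.getD b 0) = true := by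
        decide +kernel
      have := hall i j hij
      rwa [List.getD_eq_getElem, List.getD_eq_getElem] at this
  · intro t ht h2 h1 x hx
    obtain ⟨h, hh, -, hc⟩ := red t ht h2 h1
    have hp := perp_ok
    simp only [Bool.and_eq_true, List.all_eq_true, Nat.beq_eq, Nat.blt_eq, decide_eq_true_eq] at hp
    obtain ⟨⟨hu, hd⟩, hall⟩ := hp
    obtain ⟨r, hr, er⟩ := hM.code_cases (h x)
    have := hall r (List.mem_range.2 hr)
    simp only [Bool.or_eq_true, List.any_eq_true, Nat.beq_eq] at this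
    rcases this with ⟨u, hum, hb⟩ | ⟨v, hv, e⟩
    · exfalso
      have h0 := hx (h⁻¹ (lin B u)) (back hc (by rw [eτ]; exact congrArg (lin B) (hu u hum).2))
      rw [← hM.polar_preserved (hM.le hh), Equiv.Perm.coe_inv, Equiv.apply_symm_apply, ← er,
        hM.polar_code hr (hu u hum).1, if_pos hb] at h0
      exact one_ne_zero h0
    · refine ⟨h⁻¹ (lin B v), h.injective ?_⟩
      rw [hM.map_add (hM.le hh), hc, Equiv.Perm.coe_inv, Equiv.apply_symm_apply, hM.d_code eτ, ← er, e]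
  · intro t ht h2 h1 k hk hk1 hkt
    obtain ⟨h, hh, he, hc⟩ := red t ht h2 h1
    set k' := h * k * h⁻¹ with hk'
    have hk'Γ : k' ∈ Γ := mul_mem (mul_mem (hM.le hh) hk) (inv_mem (hM.le hh))
    suffices hsuf : ∃ v u, τ v = v ∧ τ u = u ∧ k' v ≠ v ∧ k' u ≠ u ∧ k' (v + u) ≠ v + u by
      obtain ⟨v, u, hv, hu, a, b, c⟩ := hsuf
      have mv : ∀ w, k' w ≠ w → k (h⁻¹ w) ≠ h⁻¹ w := fun w hw e => hw (by
        rw [hk', Equiv.Perm.mul_apply, Equiv.Perm.mul_apply, e, Equiv.Perm.coe_inv, Equiv.apply_symm_apply])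
      refine ⟨h⁻¹ v, h⁻¹ u, back hc hv, back hc hu, mv v a, mv u b, ?_⟩
      rw [← hM.map_add (hM.le (inv_mem hh))]
      exact mv _ c
    have hτ0 := tau_ok
    simp only [Bool.and_eq_true, Nat.beq_eq] at hτ0
    have hv0 : τ (lin B Short.v0) = lin B Short.v0 := by rw [eτ]; exact congrArg (lin B) hτ0.1.1.1.2
    have hw0 : τ (ω (lin B Short.v0)) = ω (lin B Short.v0) := by rw [comm_app τ hτ, hv0]
    have hadd : lin B Short.v0 + ω (lin B Short.v0) = ω (ω (lin B Short.v0)) := by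
      rw [eω, eω, hM.lin_add]; exact congrArg (lin B) hτ0.1.2
    by_cases hall : k' (lin B Short.v0) ≠ lin B Short.v0 ∧ k' (ω (lin B Short.v0)) ≠ ω (lin B Short.v0) ∧
        k' (lin B Short.v0 + ω (lin B Short.v0)) ≠ lin B Short.v0 + ω (lin B Short.v0)
    · exact ⟨_, _, hv0, hw0, hall.1, hall.2.1, hall.2.2⟩
    obtain ⟨c, hc', hcfix⟩ : ∃ c ∈ Γ₀, (∀ γ ∈ Γ₀, γ * c = c * γ) ∧ k' (c (lin B Short.v0)) = c (lin B Short.v0) := by
      rw [hadd] at hall
      by_cases a : k' (lin B Short.v0) = lin B Short.v0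
      · exact ⟨1, one_mem _, fun γ _ => by rw [mul_one, one_mul], a⟩
      by_cases b : k' (ω (lin B Short.v0)) = ω (lin B Short.v0)
      · exact ⟨ω, hω, hcomm, b⟩
      refine ⟨ω * ω, mul_mem hω hω, fun γ hγ => by rw [← mul_assoc, hcomm γ hγ, mul_assoc, hcomm γ hγ, mul_assoc], ?_⟩
      by_contra c
      exact hall ⟨a, b, c⟩
    obtain ⟨hcc, hfx⟩ := hcfix
    set g := c⁻¹ * k' * c with hg
    have hgΓ : g ∈ Γ := mul_mem (mul_mem (inv_mem (hM.le hc')) hk'Γ) (hM.le hc')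
    have hgfix : g (lin B Short.v0) = lin B Short.v0 := by
      rw [hg, Equiv.Perm.mul_apply, Equiv.Perm.mul_apply, hfx, Equiv.Perm.coe_inv, Equiv.symm_apply_apply]
    have hgk : k' = c * g * c⁻¹ := by rw [hg]; group
    have hg1 : g ≠ 1 := fun e => hk1 (by
      have : k' = 1 := by rw [hgk, e]; group
      rw [show k = h⁻¹ * k' * h by rw [hk']; group, this]; group)
    have hgt : g ≠ τ := fun e => hkt (by
      have : k' = τ := by rw [hgk, e, ← hcc τ hτ, mul_inv_cancel_right]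
      rw [show k = h⁻¹ * k' * h by rw [hk']; group, this, ← he]; group)
    obtain ⟨M, hMg, eM, p, hp, hmv⟩ : ∃ M, goodM M = true ∧ PActs B g M ∧ ∃ p ∈ movePairs, moved3 M p = true := by
      by_cases hg0 : g ∈ Γ₀
      · obtain ⟨M, hm, e⟩ := short.stab_inner hM hg0 hgfix
        have := List.all_eq_true.1 move_in M hm
        simp only [Bool.or_eq_true, List.any_eq_true, eqM_iff] at this
        rcases this with (rfl | rfl) | hh
        exacts [absurd (hM.acts_eq e hM.acts_idM) hg1, absurd (hM.acts_eq e eτ) hgt, ⟨M, good_stabIn hm, e, hh⟩]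
      · obtain ⟨M, hm, e⟩ := short.stab_outer hM hgΓ hg0 hgfix
        have := List.all_eq_true.1 move_out M hm
        exact ⟨M, good_stabOut hm, e, List.any_eq_true.1 this⟩
    have hpair := pairs_ok
    simp only [List.all_eq_true, Bool.and_eq_true, Nat.beq_eq, Nat.blt_eq, decide_eq_true_eq] at hpair
    obtain ⟨⟨⟨hp1, hp2⟩, hf1⟩, hf2⟩ := hpair p hp
    simp only [moved3, Bool.and_eq_true, Bool.not_eq_true'] at hmv
    have mvd : ∀ r < 4096, Nat.beq (app M r) r = false → k' (c (lin B r)) ≠ c (lin B r) := by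
      intro r hr hne e
      rw [hgk, Equiv.Perm.mul_apply, Equiv.Perm.mul_apply, Equiv.Perm.coe_inv, Equiv.symm_apply_apply,
        c.injective.eq_iff, eM] at e
      have hlt : app M r < 4096 := app_lt_of_good hMg r
      rw [hM.lin_inj hlt hr e, Nat.beq_refl] at hne
      exact Bool.noConfusion hne
    have cfix : ∀ r, app tau r = r → τ (c (lin B r)) = c (lin B r) := fun r hr => by
      rw [← Equiv.Perm.mul_apply, hcc τ hτ, Equiv.Perm.mul_apply, eτ, hr]
    refine ⟨c (lin B p.1), c (lin B p.2), cfix _ hf1, cfix _ hf2, mvd _ hp1 hmv.1.1, mvd _ hp2 hmv.1.2, ?_⟩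
    rw [← hM.map_add (hM.le hc'), hM.lin_add]
    exact mvd _ (Nat.xor_lt_two_pow (n := 12) hp1 hp2) hmv.2
  · intro t ht h2 h1 v hv
    obtain ⟨h, hh, he, hc⟩ := red t ht h2 h1
    obtain ⟨r, hr, er⟩ := hM.code_cases (h v)
    have hsw := List.all_eq_true.1 swap_ok r (List.mem_range.2 hr)
    simp only [Bool.or_eq_true, Bool.not_eq_true', List.any_eq_true] at hsw
    have hd : dM tau r < 4096 := Nat.xor_lt_two_pow (n := 12) hr (app_lt_of_good gτ r)
    rw [← hM.polar_preserved (hM.le hh), comm_app h hh, hM.map_add (hM.le hh), hc, ← er,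
      hM.d_code eτ, eω, hM.polar_code hr (app_lt_of_good gW _)] at hv
    rcases hsw with hf | ⟨g, hgm, hg⟩
    · rw [hf] at hv; exact absurd hv (by decide)
    have hsq := List.all_eq_true.1 swap_sq g hgm
    rw [← swapCodes_eq] at hgm
    obtain ⟨w, -, rfl⟩ := List.mem_map.1 hgm
    obtain ⟨κ, hκ, eκ⟩ := hM.word w
    have hκ2 : κ * κ = τ := hM.acts_eq (eqM_iff.1 hsq ▸ eκ.mul eκ) eτ
    set k := h⁻¹ * κ * h with hk
    have hkapp : ∀ x, h (k x) = κ (h x) := fun x => by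
      rw [hk, Equiv.Perm.mul_apply, Equiv.Perm.mul_apply, Equiv.Perm.coe_inv, Equiv.apply_symm_apply]
    simp only [swapOK, Bool.and_eq_true, Bool.not_eq_true'] at hg
    have hu : h (v + k v) = lin B (dM (code w) r) := by
      rw [hM.map_add (hM.le hh), hkapp, ← er, hM.d_code eκ]
    have hdu : dM (code w) r < 4096 := Nat.xor_lt_two_pow (n := 12) hr (app_lt_of_good (good_code w) r)
    have hdd : dM tau (dM (code w) r) < 4096 := Nat.xor_lt_two_pow (n := 12) hdu (app_lt_of_good gτ _)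
    refine ⟨k, mul_mem (mul_mem (inv_mem hh) hκ) hh, ?_, fun e => ?_, ?_⟩
    · rw [hk, show h⁻¹ * κ * h * (h⁻¹ * κ * h) = h⁻¹ * (κ * κ) * h by group, hκ2, ← he]; group
    · have h3 := congrArg h e
      rw [hc, hu] at h3
      have : lin B (dM tau (dM (code w) r)) = 0 := by rw [← hM.d_code eτ, h3, hM.two]
      rw [(hM.lin_eq_zero hdd).1 this] at hg
      exact absurd hg.1 (by decide)
    · rw [← hM.polar_preserved (hM.le hh), comm_app h hh, hM.map_add (hM.le hh) _ (t _), hc, hu,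
        hM.d_code eτ, eω, hM.polar_code hdu (app_lt_of_good gW _), hg.2]
      rfl
  · intro t ht h0 h2
    obtain ⟨r, hr, hb, hfix⟩ := hM.exists_fixed ht h2
    obtain ⟨δ, hδ, hd⟩ := short.reach hM hb
    set s := δ⁻¹ * t * δ with hs
    have hsΓ : s ∈ Γ := mul_mem (mul_mem (inv_mem (hM.le hδ)) ht) (hM.le hδ)
    have hs0 : s ∉ Γ₀ := fun hmem => h0 (by
      have := mul_mem (mul_mem hδ hmem) (inv_mem hδ)
      rwa [show δ * s * δ⁻¹ = t by rw [hs]; group] at this)
    have hsfix : s (lin B Short.v0) = lin B Short.v0 := by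
      rw [hs, Equiv.Perm.mul_apply, Equiv.Perm.mul_apply, hd, hfix, Equiv.Perm.inv_eq_iff_eq, hd]
    have hs2 : s * s = 1 := by
      rw [hs, show δ⁻¹ * t * δ * (δ⁻¹ * t * δ) = δ⁻¹ * (t * t) * δ by group, h2]; group
    obtain ⟨M, hm, e⟩ := short.stab_outer hM hsΓ hs0 hsfix
    have := List.all_eq_true.1 out_ok M hm
    simp only [Bool.or_eq_true, Bool.not_eq_true', List.any_eq_true, List.all_eq_true,
      Bool.and_eq_true] at this
    have gM : goodM M = true := good_stabOut hm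
    rcases this with hno | ⟨⟨a, b, c⟩, htr, hall⟩
    · have h' := hM.code_unique (hs2 ▸ e.mul e) hM.acts_idM (good_comp gM gM) good_idM
      rw [sqOne, h', eqM_iff.2 rfl] at hno
      exact Bool.noConfusion hno
    have hl := triples_lt
    simp only [List.all_eq_true, Nat.blt_eq, decide_eq_true_eq] at hl
    have hlt := hl (a, b, c) htr
    refine ⟨δ (lin B a), δ (lin B b), δ (lin B c), fun x hx => ?_⟩
    obtain ⟨y, hy, rfl⟩ : ∃ y ∈ seven (a, b, c), δ (lin B y) = x := by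
      simp only [List.mem_cons, List.not_mem_nil, or_false] at hx
      simp only [← hM.map_add (hM.le hδ), hM.lin_add] at hx
      rcases hx with rfl | rfl | rfl | rfl | rfl | rfl | rfl
      exacts [⟨a, by simp [seven], rfl⟩, ⟨b, by simp [seven], rfl⟩, ⟨c, by simp [seven], rfl⟩,
        ⟨Nat.xor a b, by simp [seven], rfl⟩, ⟨Nat.xor a c, by simp [seven], rfl⟩,
        ⟨Nat.xor b c, by simp [seven], rfl⟩, ⟨Nat.xor a (Nat.xor b c), by simp [seven], rfl⟩]
    have hts : t (δ (lin B y)) = δ (s (lin B y)) := by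
      rw [hs, Equiv.Perm.mul_apply, Equiv.Perm.mul_apply, Equiv.Perm.coe_inv, Equiv.apply_symm_apply]
    have hdy : dM M y < 4096 := Nat.xor_lt_two_pow (n := 12) (hlt y hy) (app_lt_of_good gM y)
    refine ⟨fun h => ?_, ?_⟩
    · rw [hts, δ.injective.eq_iff] at h
      have : lin B (dM M y) = 0 := by rw [← hM.d_code e, h, hM.two]
      have h1 := (hall y hy).1
      rw [(hM.lin_eq_zero hdy).1 this] at h1
      exact Bool.noConfusion h1
    · rw [hts, ← hM.map_add (hM.le hδ), hM.q_preserved (hM.le hδ), hM.d_code e, hM.q_code hdy, (hall y hy).2]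
      rfl

end Orbits.Model

end Cfsg.Agent.J4Type
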