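import Cfsg.Agent.J4Type.Orbits.Checks
import Cfsg.Agent.J4Type.Orbits.CentData
import Mathlib.GroupTheory.Sylow

/-!
# Elements of order three in the inner group have abelian centralisers
-/

set_option autoImplicit false
set_option Elab.async false
set_option maxRecDepth 100000

namespace Cfsg.Agent.J4Type.Orbits.Cent

open Rep Subgroup

/-- Whether the composite of two maps commutes with `X0`. -/
noncomputable def commX (T M : List ℕ) : Bool :=
  idM.all fun b => Nat.beq (app T (app M (app X0 b))) (app X0 (app T (app M b)))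

theorem word_ok : (eqM (code w0) X0 && Nat.beq (app X0 Short.v0) Short.v0) = true := by
  decide +kernel

theorem tCodes_eq : tWords.map code = tCodes := by decide +kernel

theorem rCodes_eq : rWords.map code = rCodes := by decide +kernel

theorem fix_ok : ((List.range 4096).all fun r => !bit Short.orbBits r || !Nat.beq (app X0 r) r ||
    tCodes.any fun T => Nat.beq (app T Short.v0) r) = true := by
  decide +kernel

theorem cent_ok : (stabIn.all fun M => tCodes.all fun T =>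
    !commX T M || cxList.any (eqM (comp T M))) = true := by
  decide +kernel

theorem abel_ok : (cxList.all fun M => cxList.all fun N => eqM (comp M N) (comp N M)) = true := by
  decide +kernel

theorem group_ok : (Nat.beq rCodes.length 27 && distinctB eqM rCodes && rCodes.any (eqM idM) &&
    rCodes.all fun M => rCodes.all fun N => rCodes.any (eqM (comp M N))) = true := by
  decide +kernel

theorem conj_ok : (rCodes.all fun M => (innerGens.all fun N => eqM (comp N M) (comp M N)) ||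
    uWords.any fun u => eqM (comp (code u) X0) (comp M (code u))) = true := by
  decide +kernel

variable {V : Type*} [AddCommGroup V] {B : List V} {Γ Γ₀ : Subgroup (Equiv.Perm V)}
  {q : V → ZMod 2}

theorem code_of_commute (hM : Model B Γ Γ₀ q) {ξ g : Equiv.Perm V} (hξ : PActs B ξ X0)
    (hg : g ∈ Γ₀) (hc : g * ξ = ξ * g) : ∃ M ∈ cxList, PActs B g M := by
  have hgX : goodM X0 = true := by decide +kernel
  obtain ⟨s, hs, hb, e⟩ := short.invariant hM (hM.le hg) short.v₀_lt short.base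
  have hw := word_ok
  simp only [Bool.and_eq_true, Nat.beq_eq] at hw
  have hfix : app X0 s = s := by
    refine hM.lin_inj (app_lt_of_good hgX s) hs ?_
    rw [← hξ s, ← e, ← Equiv.Perm.mul_apply, ← hc, Equiv.Perm.mul_apply, hξ, hw.2]
  have hsel := List.all_eq_true.1 fix_ok s (List.mem_range.2 hs)
  simp only [hb, hfix, Nat.beq_refl, Bool.not_true, Bool.false_or, List.any_eq_true, Nat.beq_eq]
    at hsel
  obtain ⟨T, hT, hTs⟩ := hsel
  obtain ⟨w, -, hwT⟩ := List.mem_map.1 (tCodes_eq.symm ▸ hT)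
  obtain ⟨τ, hτ, ht⟩ := hM.word w
  rw [hwT] at ht
  have hgood : goodM T = true := hwT ▸ good_code w
  have hε : (τ⁻¹ * g) (lin B Short.v0) = lin B Short.v0 := by
    rw [Equiv.Perm.mul_apply, e, Equiv.Perm.inv_eq_iff_eq, ht, hTs]
  obtain ⟨M, hm, hem⟩ := short.stab_inner hM (mul_mem (inv_mem hτ) hg) hε
  have hgc : ∀ r, g (lin B r) = lin B (app T (app M r)) := fun r => by
    have := congrArg τ (hem r)
    rw [Equiv.Perm.mul_apply, ← Equiv.Perm.mul_apply τ τ⁻¹, mul_inv_cancel,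
      Equiv.Perm.one_apply, ht] at this
    exact this
  have hcomm : commX T M = true := by
    simp only [commX, List.all_eq_true, Nat.beq_eq]
    intro b _
    refine hM.lin_inj (app_lt_of_good hgood _) (app_lt_of_good hgX _) ?_
    rw [← hgc, ← hξ, ← hξ, ← hgc, ← Equiv.Perm.mul_apply, hc, Equiv.Perm.mul_apply]
  have hsel := List.all_eq_true.1 (List.all_eq_true.1 cent_ok M hm) T hT
  simp only [hcomm, Bool.not_true, Bool.false_or, List.any_eq_true, eqM_iff] at hsel
  obtain ⟨N, hN, rfl⟩ := hsel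
  refine ⟨_, hN, fun r => ?_⟩
  rw [hgc]
  exact congrArg (lin B) (app_app T M r).symm

theorem commute_of_commute (hM : Model B Γ Γ₀ q) {ξ g h : Equiv.Perm V} (hξ : PActs B ξ X0)
    (hg : g ∈ Γ₀) (hh : h ∈ Γ₀) (hgξ : g * ξ = ξ * g) (hhξ : h * ξ = ξ * h) : g * h = h * g := by
  obtain ⟨M, hm, hgM⟩ := code_of_commute hM hξ hg hgξ
  obtain ⟨N, hn, hhN⟩ := code_of_commute hM hξ hh hhξ
  have e := eqM_iff.1 (List.all_eq_true.1 (List.all_eq_true.1 abel_ok M hm) N hn)
  exact hM.acts_eq (hgM.mul hhN) (e.symm ▸ hhN.mul hgM)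

/-- The subgroup of the inner group with codes in `rCodes`. -/
def rSub (hM : Model B Γ Γ₀ q) : Subgroup ↥Γ₀ :=
  haveI := hM.fin
  let S : Submonoid ↥Γ₀ :=
    { carrier := {g | ∃ M ∈ rCodes, PActs B g.1 M}
      one_mem' := by
        have h := group_ok
        simp only [Bool.and_eq_true, List.any_eq_true, eqM_iff] at h
        obtain ⟨M, hm, e⟩ := h.1.2
        exact ⟨M, hm, e ▸ hM.acts_idM⟩
      mul_mem' := by
        rintro a b ⟨M, hm, ha⟩ ⟨N, hn, hb⟩
        have h := group_ok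
        simp only [Bool.and_eq_true, List.all_eq_true, List.any_eq_true, eqM_iff] at h
        obtain ⟨L, hl, e⟩ := h.2 M hm N hn
        exact ⟨L, hl, e ▸ ha.mul hb⟩ }
  { S with
    inv_mem' := fun {g} hg => by
      have e : g⁻¹ = g ^ (orderOf g - 1) := by
        rw [inv_eq_iff_mul_eq_one, ← pow_succ', Nat.sub_add_cancel (orderOf_pos g),
          pow_orderOf_eq_one]
      rw [e]
      exact S.pow_mem hg _ }

theorem mem_rSub {hM : Model B Γ Γ₀ q} {g : ↥Γ₀} :
    g ∈ rSub hM ↔ ∃ M ∈ rCodes, PActs B g.1 M := Iff.rfl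

theorem exists_perm (hM : Model B Γ Γ₀ q) {M : List ℕ} (hm : M ∈ rCodes) :
    ∃ g : ↥Γ₀, PActs B g.1 M ∧ goodM M = true := by
  obtain ⟨w, -, rfl⟩ := List.mem_map.1 (rCodes_eq.symm ▸ hm)
  obtain ⟨γ, hγ, h⟩ := hM.word w
  exact ⟨⟨γ, hγ⟩, h, good_code w⟩

theorem card_rSub (hM : Model B Γ Γ₀ q) : Nat.card ↥(rSub hM) = 27 := by
  have hex : ∀ i : Fin rCodes.length, ∃ g : ↥(rSub hM), PActs B g.1.1 rCodes[i] := fun i => by
    obtain ⟨g, hg, -⟩ := exists_perm hM (List.getElem_mem i.2)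
    exact ⟨⟨g, _, List.getElem_mem i.2, hg⟩, hg⟩
  choose f hf using hex
  have h := group_ok
  simp only [Bool.and_eq_true, Nat.beq_eq] at h
  have hbij : Function.Bijective f := by
    refine ⟨fun i j e => ?_, fun g => ?_⟩
    · obtain ⟨-, -, gi⟩ := exists_perm hM (List.getElem_mem i.2)
      obtain ⟨-, -, gj⟩ := exists_perm hM (List.getElem_mem j.2)
      exact Fin.ext (distinctB_get (fun a b h => eqM_iff.2 h) h.1.1.2 i.2 j.2
        (hM.code_unique (hf i) (e ▸ hf j) gi gj))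
    · obtain ⟨M, hm, hg⟩ := g.2
      obtain ⟨i, hi, rfl⟩ := List.getElem_of_mem hm
      exact ⟨⟨i, hi⟩, Subtype.ext (Subtype.ext (hM.acts_eq (hf ⟨i, hi⟩) hg))⟩
  rw [← Nat.card_congr (Equiv.ofBijective f hbij), Nat.card_fin, h.1.1.1]

/-- An element of order three is central or conjugate to the element `ξ` with code `X0`. -/
theorem exists_conj (hM : Model B Γ Γ₀ q) {x : Equiv.Perm V} (hx : x ∈ Γ₀) (hx3 : x * x * x = 1)
    (hnc : ∃ γ ∈ Γ₀, γ * x ≠ x * γ) :
    ∃ ξ c : Equiv.Perm V, c ∈ Γ₀ ∧ PActs B ξ X0 ∧ x = c * ξ * c⁻¹ := by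
  haveI := hM.fin
  haveI : Fact (Nat.Prime 3) := ⟨Nat.prime_three⟩
  have hfac : (Nat.card ↥Γ₀).factorization 3 = 3 := by
    rw [hM.card, show (1330560 : ℕ) = 3 ^ 3 * 49280 by norm_num, Nat.factorization_mul (by norm_num)
      (by norm_num), Finsupp.add_apply, Nat.Prime.factorization_pow Nat.prime_three,
      Finsupp.single_eq_same, Nat.factorization_eq_zero_of_not_dvd (show ¬ 3 ∣ 49280 by norm_num)]
  let R : Sylow 3 ↥Γ₀ := Sylow.ofCard (rSub hM) (by rw [card_rSub, hfac]; norm_num)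
  have hp : IsPGroup 3 ↥(zpowers (⟨x, hx⟩ : ↥Γ₀)) := by
    intro g
    obtain ⟨k, hk⟩ := mem_zpowers_iff.1 g.2
    refine ⟨1, Subtype.ext ?_⟩
    have h3 : (⟨x, hx⟩ : ↥Γ₀) ^ (3 : ℕ) = 1 := by
      apply Subtype.ext
      rw [SubmonoidClass.coe_pow, pow_succ, pow_succ, pow_one]
      exact hx3
    rw [SubmonoidClass.coe_pow, ← hk, pow_one, ← zpow_natCast, ← zpow_mul, mul_comm, zpow_mul,
      zpow_natCast, h3, one_zpow, OneMemClass.coe_one]
  obtain ⟨P, hP⟩ := hp.exists_le_sylow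
  obtain ⟨k, rfl⟩ := MulAction.exists_smul_eq ↥Γ₀ R P
  have hr : k⁻¹ * ⟨x, hx⟩ * k ∈ rSub hM := by
    have h := hP (mem_zpowers (⟨x, hx⟩ : ↥Γ₀))
    rw [Sylow.coe_subgroup_smul, Subgroup.mem_pointwise_smul_iff_inv_smul_mem] at h
    simpa [R] using h
  obtain ⟨M, hm, hr⟩ := hr
  have hsel := List.all_eq_true.1 conj_ok M hm
  simp only [Bool.or_eq_true, List.all_eq_true, List.any_eq_true, eqM_iff] at hsel
  rcases hsel with hcen | ⟨u, -, hu⟩
  · exfalso
    set r : Equiv.Perm V := ((k⁻¹ * ⟨x, hx⟩ * k : ↥Γ₀) : Equiv.Perm V) with hrdef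
    have hc : ∀ γ ∈ Γ₀, Commute γ r := fun γ hγ => by
      rw [hM.gen₀] at hγ
      induction hγ using Subgroup.closure_induction with
      | mem y hy =>
        obtain ⟨N, hn, hyN⟩ := hy
        exact hM.acts_eq (hyN.mul hr) ((hcen N hn).symm ▸ hr.mul hyN)
      | one => exact Commute.one_left r
      | mul a b _ _ ha hb => exact ha.mul_left hb
      | inv a _ ha => exact ha.inv_left
    have hxr : x = r := by
      have := (hc k k.2).eq
      rw [hrdef] at this ⊢
      push_cast at this ⊢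
      calc x = (k : Equiv.Perm V) * ((k : Equiv.Perm V)⁻¹ * x * k) * (k : Equiv.Perm V)⁻¹ := by group
        _ = _ := by rw [this]; group
    obtain ⟨γ, hγ, hne⟩ := hnc
    exact hne (hxr ▸ (hc γ hγ).eq)
  · obtain ⟨ν, hν, hn⟩ := hM.word u
    obtain ⟨ξ, -, hξ⟩ := hM.word w0
    have hw := word_ok
    simp only [Bool.and_eq_true, eqM_iff] at hw
    rw [hw.1] at hξ
    refine ⟨ξ, (k : Equiv.Perm V) * ν, mul_mem k.2 hν, hξ, ?_⟩
    have e : ν * ξ = ((k⁻¹ * ⟨x, hx⟩ * k : ↥Γ₀) : Equiv.Perm V) * ν :=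
      hM.acts_eq (hn.mul hξ) (hu.symm ▸ hr.mul hn)
    push_cast at e
    rw [mul_assoc (k : Equiv.Perm V) ν ξ, e]
    group

/-- The centraliser of a non-central element of order three is abelian. -/
theorem abelian (hM : Model B Γ Γ₀ q) {x g h : Equiv.Perm V} (hx : x ∈ Γ₀) (hx3 : x * x * x = 1)
    (hnc : ∃ γ ∈ Γ₀, γ * x ≠ x * γ) (hg : g ∈ Γ₀) (hh : h ∈ Γ₀) (hgx : g * x = x * g)
    (hhx : h * x = x * h) : g * h = h * g := by
  obtain ⟨ξ, c, hc, hξ, rfl⟩ := exists_conj hM hx hx3 hnc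
  have key : ∀ a : Equiv.Perm V, a * (c * ξ * c⁻¹) = c * ξ * c⁻¹ * a →
      c⁻¹ * a * c * ξ = ξ * (c⁻¹ * a * c) := fun a ha =>
    calc c⁻¹ * a * c * ξ = c⁻¹ * (a * (c * ξ * c⁻¹)) * c := by group
      _ = _ := by rw [ha]; group
  have := commute_of_commute hM hξ (mul_mem (mul_mem (inv_mem hc) hg) hc)
    (mul_mem (mul_mem (inv_mem hc) hh) hc) (key g hgx) (key h hhx)
  calc g * h = c * ((c⁻¹ * g * c) * (c⁻¹ * h * c)) * c⁻¹ := by group
    _ = _ := by rw [this]; group

end Cent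

/-- The field `cent` of `LinFacts`. -/
theorem Model.cent {V : Type*} [AddCommGroup V] {B : List V} {Γ Γ₀ : Subgroup (Equiv.Perm V)}
    {q : V → ZMod 2} (hM : Model B Γ Γ₀ q) :
    ∀ i ∈ Γ₀, ∀ x ∈ Γ₀, ∀ r ∈ Γ₀, i * i = 1 → i ≠ 1 → x * x * x = 1 →
      (∃ γ ∈ Γ₀, γ * x ≠ x * γ) → i * x = x * i → r * x = x * r → Odd (orderOf r) →
      i * r * i * r ∈ Subgroup.zpowers x → r ∈ Subgroup.zpowers x := by
  intro i hi x hx r hr hi2 _ hx3 hnc hix hrx hodd hmem
  have e : i * r * i * r = r ^ 2 := by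
    rw [Cent.abelian hM hx hx3 hnc hi hr hix hrx, mul_assoc r i i, hi2, mul_one, pow_two]
  rw [e] at hmem
  obtain ⟨m, hm⟩ := hodd
  have hr2 : r = (r ^ 2) ^ (m + 1) := by
    rw [← pow_mul, show 2 * (m + 1) = orderOf r + 1 by omega, pow_succ, pow_orderOf_eq_one, one_mul]
  rw [hr2]
  exact pow_mem hmem _

end Cfsg.Agent.J4Type.Orbits
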