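import Cfsg.Agent.J4Type.Orbits.Checks
import Cfsg.Agent.J4Type.Orbits.DataWit

/-!
# Kernel checks for the involutions of the model
-/

set_option autoImplicit false
set_option Elab.async false
set_option maxRecDepth 100000

namespace Cfsg.Agent.J4Type.Orbits

open Rep Wit

/-- The form on codes, as a Boolean. -/
noncomputable def qb (r : ℕ) : Bool := Nat.beq (qv r) 1

/-- Its polar form. -/
noncomputable def bv (a b : ℕ) : Bool := Bool.xor (qb (Nat.xor a b)) (Bool.xor (qb a) (qb b))

/-- The map is an involution or the identity. -/
noncomputable def sqOne (M : List ℕ) : Bool := eqM (comp M M) idM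

/-- All three of a pair and their sum move. -/
noncomputable def moved3 (M : List ℕ) (p : ℕ × ℕ) : Bool :=
  !(Nat.beq (app M p.1) p.1) && !(Nat.beq (app M p.2) p.2) &&
    !(Nat.beq (app M (Nat.xor p.1 p.2)) (Nat.xor p.1 p.2))

/-- The seven sums of a triple. -/
noncomputable def seven : ℕ × ℕ × ℕ → List ℕ
  | (a, b, c) => [a, b, c, Nat.xor a b, Nat.xor a c, Nat.xor b c, Nat.xor a (Nat.xor b c)]

/-- The square root test at a vector. -/
noncomputable def swapOK (g : List ℕ) (r : ℕ) : Bool :=
  !(Nat.beq (dM tau (dM g r)) 0) && !(bv (dM g r) (app Wm (dM tau (dM g r))))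

theorem conjCodes_eq : conjWords.map code = conjCodes := by decide +kernel

theorem swapCodes_eq : swapWords.map code = swapCodes := by decide +kernel

theorem wordW_eq : code wordW = Wm := by decide +kernel

theorem wordTau_eq : code wordTau = tau := by decide +kernel

theorem conj_ok : (stabIn.all fun s => eqM s idM || !sqOne s ||
    conjCodes.any fun h => eqM (comp h s) (comp tau h)) = true := by decide +kernel

theorem tau_ok : (sqOne tau && !eqM tau idM && Nat.beq (app tau Short.v0) Short.v0 &&
    Nat.beq (app tau (app Wm Short.v0)) (app Wm Short.v0) &&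
    Nat.beq (Nat.xor Short.v0 (app Wm Short.v0)) (app Wm (app Wm Short.v0)) &&
    ((List.range 12).any fun i => !(Nat.beq (app tau (2 ^ i)) (2 ^ i)))) = true := by decide +kernel

theorem pairs_ok : (movePairs.all fun p => Nat.blt p.1 4096 && Nat.blt p.2 4096 &&
    Nat.beq (app tau p.1) p.1 && Nat.beq (app tau p.2) p.2) = true := by decide +kernel

theorem move_in : (stabIn.all fun g => eqM g idM || eqM g tau || movePairs.any (moved3 g)) = true := by
  decide +kernel

theorem move_out : (stabOut.all fun g => movePairs.any (moved3 g)) = true := by decide +kernel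

theorem five_ok : (Nat.beq five.length 5 && (five.all fun a => Nat.blt a 4096 && Nat.beq (app tau a) a) &&
    distinctB (fun a b => !bv a b) five) = true := by decide +kernel

theorem iso_ok : ((List.range 4096).all fun r => !qb (dM tau r)) = true := by decide +kernel

theorem swap_sq : (swapCodes.all fun g => eqM (comp g g) tau) = true := by decide +kernel

theorem swap_ok : ((List.range 4096).all fun r => !bv r (app Wm (dM tau r)) ||
    swapCodes.any fun g => swapOK g r) = true := by decide +kernel

theorem out_ok : (stabOut.all fun g => !sqOne g || triples.any fun t => (seven t).all fun x =>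
    !(Nat.beq (dM g x) 0) && !(qb (dM g x))) = true := by decide +kernel

theorem triples_lt : (triples.all fun t => (seven t).all fun x => Nat.blt x 4096) = true := by
  decide +kernel

theorem q_inv : ((List.range 4096).all fun r => Nat.beq (qv (app Xm r)) (qv r) &&
    Nat.beq (qv (app Ym r)) (qv r) && Nat.beq (qv (app F0 r)) (qv r) &&
    Nat.beq (qv (app Sg r)) (qv r)) = true := by decide +kernel

end Cfsg.Agent.J4Type.Orbits
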