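import Cfsg.Agent.J4Type.Orbits.NormalData
import Cfsg.Agent.J4Type.Orbits.WitChecks
import Cfsg.Agent.J4Type.LinFacts

/-!
# The form, the normal subgroup of order 32 of the stabiliser and its kernel set
-/

set_option autoImplicit false
set_option maxRecDepth 100000

namespace Cfsg.Agent.J4Type.Orbits

open Rep Subgroup

variable {V : Type*} [AddCommGroup V]

/-- The normal subgroup of order 32 of the stabiliser of the base point. -/
def qSub (B : List V) : Subgroup (Equiv.Perm V) := closure {γ | ∃ M ∈ qList, PActs B γ M}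

theorem qList_closed : ((qList.all fun a => qList.all fun b => qList.any fun c => eqM (comp a b) c) &&
    qList.any (eqM idM)) = true := by decide +kernel

theorem qList_mem : (((qList.take 16).all fun a => stabIn.any (eqM a)) &&
    ((qList.drop 16).all fun a => stabOut.any (eqM a))) = true := by decide +kernel

theorem qList_distinct : distinctB eqM qList = true := by decide +kernel

theorem qList_len : qList.length = 32 := by decide +kernel

theorem qList_sq : (qList.all fun a => eqM (comp a a) idM && Nat.beq (app a Short.v0) Short.v0) = true := by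
  decide +kernel

theorem kList_spec : ((List.range 4096).all fun r => kList.any (Nat.beq r) ==
    (!(bv Short.v0 r) && qList.all fun a => Nat.beq (Nat.xor (app a r) r) 0 ||
      Nat.beq (Nat.xor (app a r) r) Short.v0)) = true := by decide +kernel

theorem kList_len : kList.length = 64 := by decide +kernel

theorem kList_lt : (kList.all fun r => Nat.blt r 4096) = true := by decide +kernel

theorem qv_zero : qv 0 = 0 := by decide +kernel

theorem qv_le : ((List.range 4096).all fun r => Nat.blt (qv r) 2) = true := by decide +kernel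

theorem base_facts : (Nat.beq (qv Short.v0) 0 && bv Short.v0 8) = true := by decide +kernel

namespace Model

variable {B : List V} {Γ Γ₀ : Subgroup (Equiv.Perm V)} {q : V → ZMod 2} (hM : Model B Γ Γ₀ q)
include hM

theorem lin_add (a b : ℕ) : lin B a + lin B b = lin B (a ^^^ b) := (lin_xor hM.two B a b).symm

theorem lin_eq_zero {a : ℕ} (ha : a < 4096) : lin B a = 0 ↔ a = 0 :=
  ⟨fun h => hM.lin_inj ha (by norm_num) (h.trans (lin_zero B).symm), fun h => h ▸ lin_zero B⟩

theorem q_code {r : ℕ} (hr : r < 4096) : q (lin B r) = if qb r then 1 else 0 := by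
  rw [hM.q_eq r hr]
  have h := List.all_eq_true.1 qv_le r (List.mem_range.2 hr)
  simp only [Nat.blt_eq, decide_eq_true_eq] at h
  unfold qb
  interval_cases h : qv r <;> simp

theorem q_zero : q 0 = 0 := by
  have := hM.q_eq 0 (by norm_num)
  rwa [lin_zero, qv_zero, Nat.cast_zero] at this

theorem polar_code {a b : ℕ} (ha : a < 4096) (hb : b < 4096) :
    polar2 q (lin B a) (lin B b) = if bv a b then 1 else 0 := by
  rw [polar2, hM.lin_add, hM.q_code (Nat.xor_lt_two_pow (n := 12) ha hb), hM.q_code ha, hM.q_code hb,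
    bv, show Nat.xor a b = a ^^^ b from rfl]
  cases qb (a ^^^ b) <;> cases qb a <;> cases qb b <;> decide

theorem mem_qSub_acts {M : List ℕ} (h : M ∈ qList) : ∃ γ, γ ∈ Γ ∧ γ (lin B Short.v0) = lin B Short.v0 ∧
    PActs B γ M ∧ (M ∈ qList.take 16 → γ ∈ Γ₀) ∧ (M ∈ qList.drop 16 → γ ∉ Γ₀) := by
  have hm := qList_mem
  simp only [Bool.and_eq_true, List.all_eq_true, List.any_eq_true, eqM_iff] at hm
  have hs := qList_sq
  simp only [Bool.and_eq_true, List.all_eq_true, Nat.beq_eq] at hs
  obtain ⟨σ, hσΓ, hσ⟩ := hM.exists_sigma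
  obtain ⟨υ, hυ, hu⟩ := hM.word Short.wordU
  obtain ⟨ω, -, hω⟩ := hM.word Wit.wordW
  rw [wordW_eq] at hω
  have hfix : ∀ {γ}, PActs B γ M → γ (lin B Short.v0) = lin B Short.v0 := fun e =>
    (e _).trans (congrArg (lin B) (hs M h).2)
  rw [← List.take_append_drop 16 qList, List.mem_append] at h
  have key : ∀ c ∈ stabOut, ∃ γ, γ ∈ Γ ∧ PActs B γ c ∧ γ ∉ Γ₀ := by
    intro c hc
    obtain ⟨s, hs', rfl⟩ := List.mem_map.1 hc
    obtain ⟨δ, hδ, hd, -⟩ := short.exists_of_mem hM hs'
    refine ⟨υ * σ * δ, mul_mem (mul_mem (hM.le hυ) hσΓ) (hM.le hδ), (short.outer ▸ hu.mul hσ).mul hd,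
      fun hc => hM.sigma_not_mem hσ hω ?_⟩
    have := mul_mem (mul_mem (inv_mem hυ) hc) (inv_mem hδ)
    rwa [show υ⁻¹ * (υ * σ * δ) * δ⁻¹ = σ by group] at this
  rcases h with h | h
  · obtain ⟨c, hc, rfl⟩ := hm.1 M h
    obtain ⟨γ, hγ, hd, -⟩ := short.exists_of_mem hM hc
    refine ⟨γ, hM.le hγ, hfix hd, hd, fun _ => hγ, fun h' hn => ?_⟩
    obtain ⟨c', hc', e⟩ := hm.2 M h'
    obtain ⟨γ', -, hd', hn'⟩ := key c' hc'
    rw [← e] at hd'
    exact hn' (hM.acts_eq hd' hd ▸ hγ)
  · obtain ⟨c, hc, rfl⟩ := hm.2 M h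
    obtain ⟨γ, hγ, hd, hn⟩ := key M hc
    refine ⟨γ, hγ, hfix hd, hd, fun h' => ?_, fun _ => hn⟩
    obtain ⟨c', hc', e⟩ := hm.1 M h'
    obtain ⟨γ', hγ', hd', -⟩ := short.exists_of_mem hM hc'
    rw [← e] at hd'
    exact hM.acts_eq hd' hd ▸ hγ'

theorem mem_qSub {γ : Equiv.Perm V} : γ ∈ qSub B ↔ ∃ M ∈ qList, PActs B γ M := by
  refine ⟨fun h => ?_, fun h => subset_closure h⟩
  have h' := hM.mem_closure_gens h
  clear h
  have hc := qList_closed
  simp only [Bool.and_eq_true, List.all_eq_true, List.any_eq_true, eqM_iff] at hc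
  induction h' using Submonoid.closure_induction with
  | mem x hx => exact hx
  | one =>
    obtain ⟨c, hc, e⟩ := hc.2
    exact ⟨c, hc, e ▸ hM.acts_idM⟩
  | mul x y _ _ hx hy =>
    obtain ⟨a, ha, hx⟩ := hx
    obtain ⟨b, hb, hy⟩ := hy
    obtain ⟨c, hc', e⟩ := hc.1 a ha b hb
    exact ⟨c, hc', e ▸ hx.mul hy⟩

theorem qSub_le : qSub B ≤ Γ := fun γ h => by
  obtain ⟨M, hm, e⟩ := hM.mem_qSub.1 h
  obtain ⟨δ, hδ, -, hd, -⟩ := hM.mem_qSub_acts hm
  exact hM.acts_eq hd e ▸ hδ

theorem qSub_fix {γ : Equiv.Perm V} (h : γ ∈ qSub B) : γ (lin B Short.v0) = lin B Short.v0 := by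
  obtain ⟨M, hm, e⟩ := hM.mem_qSub.1 h
  have hs := qList_sq
  simp only [Bool.and_eq_true, List.all_eq_true, Nat.beq_eq] at hs
  exact (e _).trans (congrArg (lin B) (hs M hm).2)

theorem card_qSub : Nat.card (qSub B) = 32 := by
  classical
  have hex : ∀ i : Fin qList.length, ∃ γ : qSub B, PActs B (γ : Equiv.Perm V) qList[i] := fun i => by
    obtain ⟨γ, -, -, hd, -⟩ := hM.mem_qSub_acts (List.getElem_mem i.2)
    exact ⟨⟨γ, hM.mem_qSub.2 ⟨_, List.getElem_mem i.2, hd⟩⟩, hd⟩
  choose f hf using hex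
  have good : ∀ M ∈ qList, goodM M = true := by
    have h : (qList.all goodM) = true := by decide +kernel
    simpa using h
  have hb : Function.Bijective f := by
    refine ⟨fun i j e => Fin.ext (distinctB_get (fun a b h => by rw [h]; exact eqM_iff.2 rfl) qList_distinct
      i.2 j.2 (hM.code_unique (hf i) (e ▸ hf j) (good _ (List.getElem_mem i.2)) (good _ (List.getElem_mem j.2)))),
      fun γ => ?_⟩
    obtain ⟨M, hm, e⟩ := hM.mem_qSub.1 γ.2
    obtain ⟨i, hi, rfl⟩ := List.getElem_of_mem hm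
    exact ⟨⟨i, hi⟩, Subtype.ext (hM.acts_eq (hf ⟨i, hi⟩) e)⟩
  rw [← Nat.card_congr (Equiv.ofBijective f hb), Nat.card_fin, qList_len]

theorem kernelSet_qSub :
    kernelSet q (qSub B) (lin B Short.v0) = {v | ∃ k ∈ kList, lin B k = v} := by
  have hlt := kList_lt
  simp only [List.all_eq_true, Nat.blt_eq, decide_eq_true_eq] at hlt
  ext v
  obtain ⟨r, hr, rfl⟩ := hM.code_cases v
  have hspec := List.all_eq_true.1 kList_spec r (List.mem_range.2 hr)
  simp only [beq_iff_eq] at hspec
  rw [Set.mem_setOf_eq]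
  have hk : (∃ k ∈ kList, lin B k = lin B r) ↔ kList.any (Nat.beq r) = true := by
    simp only [List.any_eq_true, Nat.beq_eq]
    exact ⟨fun ⟨k, hk, e⟩ => ⟨k, hk, (hM.lin_inj (hlt k hk) hr e).symm⟩, fun ⟨k, hk, e⟩ => ⟨k, hk, e ▸ rfl⟩⟩
  rw [hk, hspec, Bool.and_eq_true, List.all_eq_true]
  have hv : Short.v0 < 4096 := short.v₀_lt
  refine and_congr ?_ ⟨fun h M hm => ?_, fun h γ hγ => ?_⟩
  · rw [hM.polar_code hv hr]
    cases bv Short.v0 r <;> simp
  · obtain ⟨γ, -, -, hd, -⟩ := hM.mem_qSub_acts hm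
    have hmr : app M r < 4096 := by
      have h' : (qList.all goodM) = true := by decide +kernel
      exact app_lt_of_good (List.all_eq_true.1 h' M hm) r
    have hx : app M r ^^^ r < 4096 := Nat.xor_lt_two_pow (n := 12) hmr hr
    simp only [Bool.or_eq_true, Nat.beq_eq]
    rcases h γ (hM.mem_qSub.2 ⟨M, hm, hd⟩) with e | e <;> rw [hd, hM.lin_add] at e
    · exact Or.inl ((hM.lin_eq_zero hx).1 e)
    · exact Or.inr (hM.lin_inj hx hv e)
  · obtain ⟨M, hm, e⟩ := hM.mem_qSub.1 hγ
    have := h M hm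
    simp only [Bool.or_eq_true, Nat.beq_eq] at this
    rw [e, hM.lin_add]
    rcases this with e' | e'
    · exact Or.inl ((congrArg (lin B) e').trans (lin_zero B))
    · exact Or.inr (congrArg (lin B) e')

theorem kernel : (kernelSet q (qSub B) (lin B Short.v0)).ncard ≤ 64 := by
  classical
  rw [hM.kernelSet_qSub, show {v | ∃ k ∈ kList, lin B k = v} = ↑((kList.toFinset).image (lin B)) by
    ext; simp, Set.ncard_coe_finset]
  exact Finset.card_image_le.trans ((List.toFinset_card_le _).trans kList_len.le)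

theorem base_ne : lin B Short.v0 ≠ 0 := fun h => by
  simpa [Short.v0] using (hM.lin_eq_zero short.v₀_lt).1 h

theorem base_sing : q (lin B Short.v0) = 0 := by
  have h := base_facts
  simp only [Bool.and_eq_true, Nat.beq_eq] at h
  rw [hM.q_eq _ short.v₀_lt, h.1, Nat.cast_zero]

theorem base_partner : polar2 q (lin B Short.v0) (lin B 8) = 1 := by
  have h := base_facts
  simp only [Bool.and_eq_true] at h
  rw [hM.polar_code short.v₀_lt (by norm_num), if_pos h.2]

end Model

end Cfsg.Agent.J4Type.Orbits
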