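import Cfsg.Agent.J4Type.LinFacts
import Cfsg.Agent.J4Type.Orbits.Normal
import Cfsg.Agent.J4Type.Orbits.LinQData

/-!
# The normal subgroup of order 32 of the stabiliser of a short point

The fields `sect`, `witness`, `second`, `outerQ` and `innerQ` of `LinFacts`, for a model and a subgroup
`Q₀` whose elements are the ones with codes in `qL`.
-/

set_option autoImplicit false
set_option Elab.async false
set_option maxRecDepth 100000

namespace Cfsg.Agent.J4Type.Orbits.LinQ

open Cfsg.Agent.J4Type.Rep Subgroup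

/-- The codes `0` and `7`: the line of the base point. -/
noncomputable def t07 (x : ℕ) : Bool := Nat.beq x 0 || Nat.beq x 7

/-- The polar form of `qv` is not zero. -/
noncomputable def bvB (a b : ℕ) : Bool := Nat.beq ((qv (Nat.xor a b) + qv a + qv b) % 2) 1

/-- Membership in the kernel set. -/
noncomputable def inK (r : ℕ) : Bool := bit kBits r

/-- A code of the list comes from a stabiliser position; the flag tells whether it is outside. -/
noncomputable def posOK (M : List ℕ) (p : Bool × ℕ × ℕ) : Bool :=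
  Nat.blt p.2.1 Short.codesA.length && Nat.blt p.2.2 Short.codesB.length &&
    eqM (cond p.1 (comp Short.S0c (comp (Short.codesA.getD p.2.1 []) (Short.codesB.getD p.2.2 [])))
      (comp (Short.codesA.getD p.2.1 []) (Short.codesB.getD p.2.2 []))) M

/-- The compatibility of two values of a cocycle. -/
noncomputable def pairOK (g : List ℕ) (a : ℕ) (h : List ℕ) (b : ℕ) : Bool :=
  t07 (Nat.xor (Nat.xor a (app g b)) (Nat.xor b (app h a)))

/-- The compatibility of a value with the later ones. -/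
noncomputable def okWith (g : List ℕ) (a : ℕ) : List (List ℕ) → List ℕ → Bool
  | h :: hs, b :: p => pairOK g a h b && okWith g a hs p
  | _, _ => true

/-- The possible values of a cocycle on the listed elements. -/
noncomputable def sols : List (List ℕ) → List (List ℕ)
  | [] => [[]]
  | g :: gs => (sols gs).flatMap fun p =>
      (qReps.filter fun a => t07 (dM g a) && okWith g a gs p).map fun a => a :: p

/-- The values differ from those of the coboundary of `f` by the kernel set. -/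
noncomputable def trivialBy (f : ℕ) : List (List ℕ) → List ℕ → Bool
  | g :: gs, a :: p => inK (Nat.xor a (dM g f)) && trivialBy f gs p
  | _, _ => true

/-- The products of the subfamilies of a family. -/
noncomputable def spanL : List (List ℕ) → List (List ℕ)
  | [] => [idM]
  | g :: gs => spanL gs ++ (spanL gs).map (comp g)

/-- The value of a witness. -/
noncomputable def val (M : List ℕ) (p : ℕ × Bool) : ℕ :=
  Nat.xor (dM M p.1) (cond p.2 7 0)

/-- The witnesses are orthogonal to the base point and have different values. -/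
noncomputable def witOK (M : List ℕ) (ps : List (ℕ × Bool)) : Bool :=
  (ps.all fun p => Nat.blt p.1 4096 && !bvB 7 p.1) && distinctB Nat.beq (ps.map (val M))

/-- The data of an inner element. -/
noncomputable def innerOK (M : List ℕ) (vs ws : List ℕ) : Bool :=
  (vs.all fun v => Nat.blt v 4096 && Nat.beq (app M v) v && !bvB 7 v) &&
    (List.range 4096).all fun k => !inK k || (vs.any fun v => bvB k v) ||
      ws.any fun w => Nat.beq (dM M w) k

theorem qL_good : (qL.all goodM) = true := by decide +kernel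

theorem qL_nodup : qL.Nodup := by decide +kernel

theorem qGens_mem : (qGens.all fun g => qL.any fun M => eqM g M) = true := by decide +kernel

theorem qL_pos : (qL.all fun M => qPos.any fun p => posOK M p &&
    cond p.1 (outerData.any fun d => eqM d.1 M) (eqM M idM || innerData.any fun d => eqM d.1 M)) = true := by
  decide +kernel

theorem qL_outer_W : (qL.all fun M => !(eqM (comp M Wm) (comp Wm M)) ||
    eqM M idM || innerData.any fun d => eqM d.1 M) = true := by
  decide +kernel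

theorem kBits_eq : ((List.range 4096).all fun r =>
    inK r == (!bvB 7 r && qL.all fun M => t07 (dM M r))) = true := by
  decide +kernel

theorem kL_all : ((List.range 4096).all fun r => !inK r || kL.any fun k => Nat.beq k r) = true := by
  decide +kernel

theorem kL_xor : (kL.all fun k => kL.all fun l => inK (Nat.xor k l)) = true := by decide +kernel

theorem inK_base : (inK 0 && inK 7) = true := by decide +kernel

theorem reps_cover : ((List.range 4096).all fun r =>
    bvB 7 r || qReps.any fun a => inK (Nat.xor r a)) = true := by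
  decide +kernel

theorem reps_small : (qReps.all fun a => Nat.blt a 4096) = true := by decide +kernel

theorem span_cover : (qL.all fun M => (spanL qGens).any fun N => eqM M N) = true := by decide +kernel

theorem sols_ok : ((sols qGens).all fun p => trivialBy 0 qGens p ||
    (List.range 4096).all fun f => !bvB 7 f || trivialBy f qGens p) = true := by
  decide +kernel

theorem inner_ok : (innerData.all fun d =>
    witOK d.1 d.2.1 && Nat.ble 8 d.2.1.length && innerOK d.1 d.2.2.1 d.2.2.2) = true := by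
  decide +kernel

theorem outer_ok : (outerData.all fun d => witOK d.1 d.2 && Nat.ble 9 d.2.length) = true := by
  decide +kernel

theorem wit_ok : (posOK witCode (false, witPos) && goodM witCode &&
    (qL.all fun M => !eqM (comp witCode witCode) M) &&
    Nat.ble 32 (((List.range 4096).filter fun r => inK r && Nat.beq (app witCode r) r).length *
      (qL.filter fun M => eqM (comp witCode M) (comp M witCode)).length)) = true := by
  decide +kernel

theorem second_ok : (Nat.beq Short.v0 7 && !bvB 7 secondPt && !inK secondPt &&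
    bit Short.orbBits secondPt && (qL.all fun M => secondImgs.any fun r => Nat.beq r (app M secondPt)) &&
    Nat.ble secondImgs.length 4) = true := by
  decide +kernel

theorem t07_iff {x : ℕ} : t07 x = true ↔ x = 0 ∨ x = 7 := by simp [t07]

theorem t07_xor {x y : ℕ} (h : t07 x = true) (k : t07 y = true) : t07 (Nat.xor x y) = true := by
  rw [t07_iff] at h k ⊢
  rcases h with rfl | rfl <;> rcases k with rfl | rfl <;> decide

theorem inK_xor {k l : ℕ} (hk : k < 4096) (hl : l < 4096) (h : inK k = true) (h' : inK l = true) :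
    inK (Nat.xor k l) = true := by
  have e := List.all_eq_true.1 kL_all
  have ek := e k (List.mem_range.2 hk)
  have el := e l (List.mem_range.2 hl)
  simp only [h, h', Bool.not_true, Bool.false_or, List.any_eq_true, Nat.beq_eq] at ek el
  obtain ⟨k', hk', rfl⟩ := ek
  obtain ⟨l', hl', rfl⟩ := el
  exact List.all_eq_true.1 (List.all_eq_true.1 kL_xor _ hk') _ hl'

theorem inK_t07 {x : ℕ} (h : t07 x = true) : inK x = true := by
  have e := inK_base
  simp only [Bool.and_eq_true] at e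
  rcases t07_iff.1 h with rfl | rfl
  exacts [e.1, e.2]

theorem dM_lt {M : List ℕ} (hM : goodM M = true) {r : ℕ} (hr : r < 4096) : dM M r < 4096 :=
  Nat.xor_lt_two_pow (n := 12) hr (app_lt_of_good hM r)

theorem qL_good' {M : List ℕ} (h : M ∈ qL) : goodM M = true := List.all_eq_true.1 qL_good M h

theorem inK_moved {M : List ℕ} (hM : M ∈ qL) {k : ℕ} (hk : k < 4096) (h : inK k = true) :
    t07 (dM M k) = true := by
  have e := List.all_eq_true.1 kBits_eq k (List.mem_range.2 hk)
  simp only [h, beq_iff_eq] at e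
  have e' := e.symm
  simp only [Bool.and_eq_true, List.all_eq_true] at e'
  exact e'.2 M hM

theorem pairOK_shift {g h : List ℕ} {a b k l : ℕ}
    (e : t07 (Nat.xor (Nat.xor a (app g b)) (Nat.xor b (app h a))) = true)
    (ek : t07 (dM h k) = true) (el : t07 (dM g l) = true) :
    pairOK g (Nat.xor a k) h (Nat.xor b l) = true := by
  have := t07_xor e (t07_xor ek el)
  unfold pairOK
  convert this using 2
  show (a ^^^ k) ^^^ app g (b ^^^ l) ^^^ ((b ^^^ l) ^^^ app h (a ^^^ k)) =
    (a ^^^ app g b ^^^ (b ^^^ app h a)) ^^^ ((k ^^^ app h k) ^^^ (l ^^^ app g l))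
  rw [app_xor, app_xor]
  ac_rfl

theorem dM_xor (M : List ℕ) (r s : ℕ) : dM M (Nat.xor r s) = Nat.xor (dM M r) (dM M s) := by
  show (r ^^^ s) ^^^ app M (r ^^^ s) = (r ^^^ app M r) ^^^ (s ^^^ app M s)
  rw [app_xor]
  ac_rfl

theorem distinctB_nodup : ∀ {l : List ℕ}, distinctB Nat.beq l = true → l.Nodup
  | [], _ => List.nodup_nil
  | a :: l, h => by
    simp only [distinctB, Bool.and_eq_true, List.all_eq_true, Bool.not_eq_true'] at h
    exact List.nodup_cons.2 ⟨fun ha => by simpa using h.1 a ha, distinctB_nodup h.2⟩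

variable {V : Type*} [AddCommGroup V] {B : List V} {Γ Γ₀ Q₀ : Subgroup (Equiv.Perm V)}
  {q : V → ZMod 2}

/-- The elements of `Q₀` are the ones with codes in the list. -/
def QSpec (B : List V) (Q₀ : Subgroup (Equiv.Perm V)) : Prop :=
  ∀ γ, γ ∈ Q₀ ↔ ∃ M ∈ qL, PActs B γ M

section

variable (hM : Model B Γ Γ₀ q)
include hM

theorem lin_zero_or {x : ℕ} (hx : x < 4096) :
    (lin B x = 0 ∨ lin B x = lin B 7) ↔ t07 x = true := by
  rw [t07_iff]
  refine ⟨fun h => ?_, fun h => ?_⟩
  · rcases h with h | h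
    · exact Or.inl (hM.lin_inj hx (by norm_num) (h.trans (lin_zero B).symm))
    · exact Or.inr (hM.lin_inj hx (by norm_num) h)
  · rcases h with rfl | rfl
    exacts [Or.inl (lin_zero B), Or.inr rfl]

theorem polar2_eq_zero {a b : ℕ} (ha : a < 4096) (hb : b < 4096) :
    polar2 q (lin B a) (lin B b) = 0 ↔ bvB a b = false := by
  have hx : a ^^^ b < 4096 := Nat.xor_lt_two_pow (n := 12) ha hb
  rw [polar2, ← lin_xor hM.two, hM.q_eq _ hx, hM.q_eq _ ha, hM.q_eq _ hb, ← Nat.cast_add,
    ← Nat.cast_add, ZMod.natCast_eq_zero_iff, Nat.dvd_iff_mod_eq_zero]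
  have e : bvB a b = Nat.beq ((qv (a ^^^ b) + qv a + qv b) % 2) 1 := rfl
  rw [e, ← Bool.not_eq_true, Nat.beq_eq]
  omega

theorem polar2_ne_zero {a b : ℕ} (ha : a < 4096) (hb : b < 4096)
    (h : polar2 q (lin B a) (lin B b) ≠ 0) : bvB a b = true := by
  rwa [ne_eq, polar2_eq_zero hM ha hb, Bool.not_eq_false] at h

theorem act_add {γ : Equiv.Perm V} {M : List ℕ} (h : PActs B γ M) (r : ℕ) :
    γ (lin B r) + lin B r = lin B (dM M r) := by
  rw [h, add_comm]
  exact (lin_xor hM.two B r (app M r)).symm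

theorem exists_acts {M : List ℕ} (h : M ∈ qL) : ∃ γ, PActs B γ M := by
  obtain ⟨⟨o, i, j⟩, -, hp⟩ := List.any_eq_true.1 (List.all_eq_true.1 qL_pos M h)
  simp only [posOK, Bool.and_eq_true, Nat.blt_eq, eqM_iff] at hp
  obtain ⟨⟨⟨hi, hj⟩, he⟩, -⟩ := hp
  obtain ⟨δ, -, hd, -⟩ := short.exists_of_mem hM (mem_prodList.2
    ⟨_, List.getD_eq_getElem _ [] hi ▸ List.getElem_mem hi,
      _, List.getD_eq_getElem _ [] hj ▸ List.getElem_mem hj, rfl⟩)
  cases o
  · exact ⟨δ, he ▸ hd⟩
  · obtain ⟨σ, -, hσ⟩ := hM.exists_sigma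
    obtain ⟨υ, -, hu⟩ := hM.word Short.wordU
    exact ⟨υ * σ * δ, he ▸ ((short.outer ▸ hu.mul hσ : PActs B (υ * σ) Short.S0c).mul hd)⟩

variable (hQ : QSpec B Q₀)
include hQ

theorem exists_mem {M : List ℕ} (h : M ∈ qL) : ∃ γ ∈ Q₀, PActs B γ M := by
  obtain ⟨γ, hγ⟩ := exists_acts hM h
  exact ⟨γ, (hQ γ).2 ⟨M, h, hγ⟩, hγ⟩

theorem mem_kernel {r : ℕ} (hr : r < 4096) :
    lin B r ∈ kernelSet q Q₀ (lin B 7) ↔ inK r = true := by
  have e := List.all_eq_true.1 kBits_eq r (List.mem_range.2 hr)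
  rw [beq_iff_eq] at e
  rw [e, Bool.and_eq_true, Bool.not_eq_true', List.all_eq_true, kernelSet, Set.mem_ofPred_eq,
    polar2_eq_zero hM (by norm_num) hr]
  refine and_congr Iff.rfl ⟨fun h M hm => ?_, fun h γ hγ => ?_⟩
  · obtain ⟨γ, hg, hγ⟩ := exists_mem hM hQ hm
    have := h γ hg
    rwa [act_add hM hγ, lin_zero_or hM (dM_lt (qL_good' hm) hr)] at this
  · obtain ⟨M, hm, hγ'⟩ := (hQ γ).1 hγ
    rw [act_add hM hγ', lin_zero_or hM (dM_lt (qL_good' hm) hr)]
    exact h M hm

theorem kernel_add {v w : V} (hv : v ∈ kernelSet q Q₀ (lin B 7))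
    (hw : w ∈ kernelSet q Q₀ (lin B 7)) : v + w ∈ kernelSet q Q₀ (lin B 7) := by
  obtain ⟨a, ha, rfl⟩ := hM.code_cases v
  obtain ⟨b, hb, rfl⟩ := hM.code_cases w
  rw [mem_kernel hM hQ ha] at hv
  rw [mem_kernel hM hQ hb] at hw
  rw [← lin_xor hM.two, mem_kernel hM hQ (Nat.xor_lt_two_pow (n := 12) ha hb)]
  exact inK_xor ha hb hv hw

theorem kernel_map {γ : Equiv.Perm V} (hγ : γ ∈ Q₀) {v : V}
    (hv : v ∈ kernelSet q Q₀ (lin B 7)) : γ v ∈ kernelSet q Q₀ (lin B 7) := by
  obtain ⟨a, ha, rfl⟩ := hM.code_cases v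
  obtain ⟨M, hm, hγ'⟩ := (hQ γ).1 hγ
  have hz : lin B (dM M a) ∈ kernelSet q Q₀ (lin B 7) :=
    (mem_kernel hM hQ (dM_lt (qL_good' hm) ha)).2
      (inK_t07 (inK_moved hm ha ((mem_kernel hM hQ ha).1 hv)))
  have := kernel_add hM hQ hz hv
  rwa [← act_add hM hγ', add_assoc, hM.two, add_zero] at this

theorem cocycle_span {d : Equiv.Perm V → V}
    (hd : ∀ γ ∈ Q₀, ∀ δ ∈ Q₀, d (γ * δ) + d γ + γ (d δ) ∈ kernelSet q Q₀ (lin B 7)) :
    ∀ gs : List (List ℕ), (∀ g ∈ gs, ∃ γ ∈ Q₀, PActs B γ g ∧ d γ ∈ kernelSet q Q₀ (lin B 7)) →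
      ∀ M ∈ spanL gs, ∃ γ ∈ Q₀, PActs B γ M ∧ d γ ∈ kernelSet q Q₀ (lin B 7)
  | [], _, M, hm => by
    rw [spanL, List.mem_singleton] at hm
    subst hm
    refine ⟨1, one_mem _, hM.acts_idM, ?_⟩
    have := hd 1 (one_mem _) 1 (one_mem _)
    rwa [mul_one, Equiv.Perm.one_apply, hM.two, zero_add] at this
  | g :: gs, hgs, M, hm => by
    have ih := cocycle_span hd gs fun h hh => hgs h (List.mem_cons_of_mem g hh)
    rw [spanL, List.mem_append] at hm
    rcases hm with hm | hm
    · exact ih M hm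
    · obtain ⟨N, hN, rfl⟩ := List.mem_map.1 hm
      obtain ⟨γ, hγ, hga, hgk⟩ := hgs g List.mem_cons_self
      obtain ⟨δ, hδ, hda, hdk⟩ := ih N hN
      refine ⟨γ * δ, mul_mem hγ hδ, hga.mul hda, ?_⟩
      have := kernel_add hM hQ (hd γ hγ δ hδ) (kernel_add hM hQ hgk (kernel_map hM hQ hγ hdk))
      rwa [show d (γ * δ) + d γ + γ (d δ) + (d γ + γ (d δ)) =
        d (γ * δ) + ((d γ + γ (d δ)) + (d γ + γ (d δ))) by abel, hM.two, add_zero] at this

/-- **The field `sect`.** -/
theorem sect {f₀ : V} (hf₀ : polar2 q (lin B 7) f₀ = 1) (e : Equiv.Perm V → V)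
    (h1 : ∀ γ ∈ Q₀, polar2 q (lin B 7) (e γ) = 0)
    (h2 : ∀ γ ∈ Q₀, γ (e γ) + e γ = 0 ∨ γ (e γ) + e γ = lin B 7)
    (h3 : ∀ γ ∈ Q₀, ∀ δ ∈ Q₀, e γ + γ (e δ) + e δ + δ (e γ) = 0 ∨
      e γ + γ (e δ) + e δ + δ (e γ) = lin B 7)
    (h4 : ∀ γ ∈ Q₀, ∀ δ ∈ Q₀, e (γ * δ) + e γ + γ (e δ) ∈ kernelSet q Q₀ (lin B 7)) :
    ∃ f : V, (f = 0 ∨ f = f₀) ∧ ∀ γ ∈ Q₀, e γ + (γ f + f) ∈ kernelSet q Q₀ (lin B 7) := by
  classical
  -- representatives of the values
  have hrep : ∀ M ∈ qL, ∃ γ : Equiv.Perm V, ∃ c k : ℕ, (γ ∈ Q₀ ∧ PActs B γ M) ∧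
      c < 4096 ∧ (k < 4096 ∧ inK k = true) ∧ Nat.xor c k ∈ qReps ∧ e γ = lin B c := by
    intro M hm
    obtain ⟨γ, hγ, hγ'⟩ := exists_mem hM hQ hm
    obtain ⟨c, hc, hce⟩ := hM.code_cases (e γ)
    have hp := h1 γ hγ
    rw [← hce, polar2_eq_zero hM (by norm_num) hc] at hp
    have hcov := List.all_eq_true.1 reps_cover c (List.mem_range.2 hc)
    simp only [hp, Bool.false_or, List.any_eq_true] at hcov
    obtain ⟨a, ha, hk⟩ := hcov
    have ha' : a < 4096 := by simpa [Nat.blt_eq] using List.all_eq_true.1 reps_small a ha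
    refine ⟨γ, c, Nat.xor c a, ⟨hγ, hγ'⟩, hc, ⟨Nat.xor_lt_two_pow (n := 12) hc ha', hk⟩, ?_, hce.symm⟩
    rwa [show Nat.xor c (Nat.xor c a) = a from by
      show c ^^^ (c ^^^ a) = a
      rw [← Nat.xor_assoc, Nat.xor_self, Nat.zero_xor]]
  choose! el c k hel hc hk hrepm heq using hrep
  set a : List ℕ → ℕ := fun M => Nat.xor (c M) (k M) with ha
  have hgens : ∀ g ∈ qGens, g ∈ qL := fun g hg => by
    obtain ⟨M, hm, e'⟩ := List.any_eq_true.1 (List.all_eq_true.1 qGens_mem g hg)
    rwa [eqM_iff.1 e']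
  have hone : ∀ g ∈ qL, t07 (dM g (a g)) = true := by
    intro g hg
    have h := h2 _ (hel g hg).1
    rw [heq g hg, act_add hM (hel g hg).2, lin_zero_or hM (dM_lt (qL_good' hg) (hc g hg))] at h
    rw [ha, dM_xor]
    exact t07_xor h (inK_moved hg (hk g hg).1 (hk g hg).2)
  have htwo : ∀ g ∈ qL, ∀ h ∈ qL, pairOK g (a g) h (a h) = true := by
    intro g hg h hh
    have e' := h3 _ (hel g hg).1 _ (hel h hh).1
    rw [heq g hg, heq h hh, (hel g hg).2 (c h), (hel h hh).2 (c g), add_assoc,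
      ← lin_xor hM.two, ← lin_xor hM.two, ← lin_xor hM.two, lin_zero_or hM ?_] at e'
    · exact pairOK_shift e' (inK_moved hh (hk g hg).1 (hk g hg).2)
        (inK_moved hg (hk h hh).1 (hk h hh).2)
    · exact Nat.xor_lt_two_pow (n := 12)
        (Nat.xor_lt_two_pow (n := 12) (hc g hg) (app_lt_of_good (qL_good' hg) _))
        (Nat.xor_lt_two_pow (n := 12) (hc h hh) (app_lt_of_good (qL_good' hh) _))
  have hsol : ∀ gs : List (List ℕ), (∀ g ∈ gs, g ∈ qL) → gs.map a ∈ sols gs := by
    intro gs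
    induction gs with
    | nil => intro _; simp [sols]
    | cons g gs ih =>
      intro hgs
      have hg := hgs g List.mem_cons_self
      have hgs' : ∀ h ∈ gs, h ∈ qL := fun h hh => hgs h (List.mem_cons_of_mem g hh)
      simp only [sols, List.mem_flatMap, List.mem_map, List.mem_filter, Bool.and_eq_true]
      refine ⟨gs.map a, ih hgs', a g, ⟨hrepm g hg, hone g hg, ?_⟩, rfl⟩
      clear ih hgs
      induction gs with
      | nil => rfl
      | cons h hs ih =>
        rw [List.map_cons, okWith, Bool.and_eq_true]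
        exact ⟨htwo g hg h (hgs' h List.mem_cons_self),
          ih fun x hx => hgs' x (List.mem_cons_of_mem h hx)⟩
  -- a vector whose coboundary has the same values
  have hfin : ∀ f < 4096, trivialBy f qGens (qGens.map a) = true →
      ∀ γ ∈ Q₀, e γ + (γ (lin B f) + lin B f) ∈ kernelSet q Q₀ (lin B 7) := by
    intro f hf htr
    have key : ∀ gs : List (List ℕ), trivialBy f gs (gs.map a) = true →
        ∀ g ∈ gs, inK (Nat.xor (a g) (dM g f)) = true := by
      intro gs
      induction gs with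
      | nil => intro _ g hg; exact absurd hg List.not_mem_nil
      | cons h hs ih =>
        intro ht g hg
        rw [List.map_cons, trivialBy, Bool.and_eq_true] at ht
        rcases List.mem_cons.1 hg with rfl | hg
        exacts [ht.1, ih ht.2 g hg]
    set d : Equiv.Perm V → V := fun γ => e γ + (γ (lin B f) + lin B f) with hd
    have hdc : ∀ γ ∈ Q₀, ∀ δ ∈ Q₀, d (γ * δ) + d γ + γ (d δ) ∈ kernelSet q Q₀ (lin B 7) := by
      intro γ hγ δ hδ
      obtain ⟨M, -, hγ'⟩ := (hQ γ).1 hγ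
      have hA := hM.additive hγ'
      convert h4 γ hγ δ hδ using 1
      simp only [hd, Equiv.Perm.mul_apply, hA]
      set v := lin B f
      rw [show e (γ * δ) + (γ (δ v) + v) + (e γ + (γ v + v)) + (γ (e δ) + (γ (δ v) + γ v)) =
        e (γ * δ) + e γ + γ (e δ) + ((γ (δ v) + γ (δ v)) + ((v + v) + (γ v + γ v))) by abel]
      simp only [hM.two, add_zero]
    intro γ hγ
    obtain ⟨M, hm, hγ'⟩ := (hQ γ).1 hγ
    obtain ⟨N, hN, he⟩ := List.any_eq_true.1 (List.all_eq_true.1 span_cover M hm)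
    obtain ⟨δ, -, hδ', hδk⟩ := cocycle_span hM hQ hdc qGens (fun g hg => by
      have hq := hgens g hg
      refine ⟨el g, (hel g hq).1, (hel g hq).2, ?_⟩
      have h := key qGens htr g hg
      have hlt : Nat.xor (a g) (dM g f) < 4096 := Nat.xor_lt_two_pow (n := 12)
        (Nat.xor_lt_two_pow (n := 12) (hc g hq) (hk g hq).1) (dM_lt (qL_good' hq) hf)
      have := kernel_add hM hQ ((mem_kernel hM hQ hlt).2 h)
        ((mem_kernel hM hQ (hk g hq).1).2 (hk g hq).2)
      rw [← lin_xor hM.two] at this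
      simp only [hd]
      rw [heq g hq, act_add hM (hel g hq).2, ← lin_xor hM.two]
      convert this using 2
      show c g ^^^ dM g f = c g ^^^ k g ^^^ dM g f ^^^ k g
      rw [Nat.xor_assoc (c g) (k g), Nat.xor_comm (k g), Nat.xor_assoc, Nat.xor_assoc,
        Nat.xor_self, Nat.xor_zero]) N hN
    rw [← eqM_iff.1 he] at hδ'
    rw [hM.acts_eq hγ' hδ']
    exact hδk
  have hs := List.all_eq_true.1 sols_ok _ (hsol qGens hgens)
  rw [Bool.or_eq_true] at hs
  rcases hs with hs | hs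
  · exact ⟨0, Or.inl rfl, lin_zero B ▸ hfin 0 (by norm_num) hs⟩
  · obtain ⟨f, hf, rfl⟩ := hM.code_cases f₀
    have hb : bvB 7 f = true := polar2_ne_zero hM (by norm_num) hf (by rw [hf₀]; decide)
    have := List.all_eq_true.1 hs f (List.mem_range.2 hf)
    rw [hb, Bool.not_true, Bool.false_or] at this
    exact ⟨_, Or.inr rfl, hfin f hf this⟩

/-- **The field `witness`.** -/
theorem witness : ∃ a ∈ Γ₀, a (lin B 7) = lin B 7 ∧ a * a ∉ Q₀ ∧
    32 ≤ {x : V × Equiv.Perm V | x.1 ∈ kernelSet q Q₀ (lin B 7) ∧ x.2 ∈ Q₀ ∧ a x.1 = x.1 ∧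
      a * x.2 = x.2 * a}.ncard := by
  classical
  have := hM.fin
  have h := wit_ok
  simp only [Bool.and_eq_true, List.all_eq_true, Bool.not_eq_true', Nat.ble_eq] at h
  obtain ⟨⟨⟨hp, hgood⟩, hsq⟩, hcard⟩ := h
  simp only [posOK, Bool.and_eq_true, Nat.blt_eq, eqM_iff] at hp
  obtain ⟨⟨hi, hj⟩, he⟩ := hp
  obtain ⟨a, haΓ, had, hav⟩ := short.exists_of_mem hM (mem_prodList.2
    ⟨_, List.getD_eq_getElem _ [] hi ▸ List.getElem_mem hi,
      _, List.getD_eq_getElem _ [] hj ▸ List.getElem_mem hj, rfl⟩)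
  rw [cond_false] at he
  rw [he] at had
  refine ⟨a, haΓ, hav, fun hc => ?_, ?_⟩
  · obtain ⟨M, hm, hM'⟩ := (hQ _).1 hc
    have := hsq M hm
    rw [hM.code_unique hM' (had.mul had) (qL_good' hm) (good_comp hgood hgood), eqM_iff.2 rfl] at this
    exact Bool.noConfusion this
  · choose! el hel using fun M (h : M ∈ qL) => exists_mem hM hQ h
    set kW := (List.range 4096).filter fun r => inK r && Nat.beq (app witCode r) r with hkW
    set qW := qL.filter fun M => eqM (comp witCode M) (comp M witCode) with hqW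
    have hc : (kW.toFinset ×ˢ qW.toFinset).card = kW.length * qW.length := by
      rw [Finset.card_product, List.toFinset_card_of_nodup (List.nodup_range.filter _),
        List.toFinset_card_of_nodup (qL_nodup.filter _)]
    rw [← hc, ← Finset.card_image_of_injOn (f := fun p : ℕ × List ℕ => (lin B p.1, el p.2)) ?_,
      ← Set.ncard_coe_finset] at hcard
    · refine hcard.trans (Set.ncard_le_ncard ?_ (Set.toFinite _))
      rintro x hx
      simp only [Finset.coe_image, Set.mem_image, Finset.mem_coe, Finset.mem_product,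
        List.mem_toFinset, hkW, hqW, List.mem_filter, List.mem_range, Bool.and_eq_true, Nat.beq_eq,
        eqM_iff] at hx
      obtain ⟨⟨r, M⟩, ⟨⟨hr, hrk, hrf⟩, hm, hcomm⟩, rfl⟩ := hx
      refine ⟨(mem_kernel hM hQ hr).2 hrk, (hel M hm).1, (had r).trans (by rw [hrf]), ?_⟩
      exact hM.acts_eq (hcomm ▸ had.mul (hel M hm).2) ((hel M hm).2.mul had)
    · rintro ⟨r, M⟩ hp ⟨s, N⟩ hp' e
      simp only [Finset.mem_coe, Finset.mem_product, List.mem_toFinset, hkW, hqW, List.mem_filter,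
        List.mem_range] at hp hp'
      simp only [Prod.mk.injEq] at e ⊢
      exact ⟨hM.lin_inj hp.1.1 hp'.1.1 e.1, hM.code_unique (hel M hp.2.1).2
        (e.2 ▸ (hel N hp'.2.1).2) (qL_good' hp.2.1) (qL_good' hp'.2.1)⟩

/-- **The field `second`.** -/
theorem second : ∃ v₁, polar2 q (lin B 7) v₁ = 0 ∧ v₁ ∉ kernelSet q Q₀ (lin B 7) ∧
    (∃ γ ∈ Γ, γ (lin B 7) = v₁) ∧ {w : V | ∃ γ ∈ Q₀, γ v₁ = w}.ncard ≤ 4 := by
  classical
  have h := second_ok
  simp only [Bool.and_eq_true, List.all_eq_true, Bool.not_eq_true', Nat.ble_eq, List.any_eq_true,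
    Nat.beq_eq] at h
  obtain ⟨⟨⟨⟨⟨hv, hb⟩, hk⟩, ho⟩, him⟩, hlen⟩ := h
  have hlt : secondPt < 4096 := by decide +kernel
  refine ⟨lin B secondPt, (polar2_eq_zero hM (by norm_num) hlt).2 hb,
    fun hc => by simp [(mem_kernel hM hQ hlt).1 hc] at hk, ?_, ?_⟩
  · obtain ⟨γ, hγ, he⟩ := short.reach hM ho
    exact ⟨γ, hM.le hγ, by rw [← he, hv]⟩
  · refine le_trans (Set.ncard_le_ncard (t := ↑(secondImgs.toFinset.image (lin B))) ?_
      (Finset.finite_toSet _)) ?_
    · rintro w ⟨γ, hγ, rfl⟩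
      obtain ⟨M, hm, hγ'⟩ := (hQ γ).1 hγ
      obtain ⟨r, hr, e⟩ := him M hm
      simp only [Finset.coe_image, Set.mem_image, Finset.mem_coe, List.mem_toFinset]
      exact ⟨r, hr, by rw [hγ' secondPt, e]⟩
    · rw [Set.ncard_coe_finset]
      exact Finset.card_image_le.trans ((List.toFinset_card_le _).trans hlen)

omit hQ in
theorem commSet_card {γ : Equiv.Perm V} {M : List ℕ} (hg : goodM M = true) (h : PActs B γ M)
    {ps : List (ℕ × Bool)} (hps : witOK M ps = true) :
    ps.length ≤ (commSet q γ (lin B 7)).ncard := by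
  classical
  have := hM.fin
  simp only [witOK, Bool.and_eq_true, List.all_eq_true, Nat.blt_eq, Bool.not_eq_true'] at hps
  have hlt : ∀ p ∈ ps, val M p < 4096 := fun p hp =>
    Nat.xor_lt_two_pow (n := 12) (dM_lt hg (hps.1 p hp).1) (by cases p.2 <;> norm_num)
  have hlen : ((ps.map (val M)).toFinset.image (lin B)).card = ps.length := by
    rw [Finset.card_image_of_injOn, List.toFinset_card_of_nodup (distinctB_nodup hps.2), List.length_map]
    intro x hx y hy e
    simp only [Finset.mem_coe, List.mem_toFinset, List.mem_map] at hx hy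
    obtain ⟨p, hp, rfl⟩ := hx
    obtain ⟨p', hp', rfl⟩ := hy
    exact hM.lin_inj (hlt p hp) (hlt p' hp') e
  rw [← hlen, ← Set.ncard_coe_finset]
  refine Set.ncard_le_ncard ?_ (Set.toFinite _)
  intro w hw
  simp only [Finset.coe_image, Set.mem_image, Finset.mem_coe, List.mem_toFinset, List.mem_map] at hw
  obtain ⟨_, ⟨⟨u, s⟩, hp, rfl⟩, rfl⟩ := hw
  refine ⟨lin B u, (polar2_eq_zero hM (by norm_num) (hps.1 _ hp).1).2 (hps.1 _ hp).2, ?_⟩
  rw [act_add hM h, ← lin_xor hM.two]
  cases s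
  · exact Or.inl (congrArg (lin B) (Nat.xor_zero _))
  · exact Or.inr rfl

/-- **The field `outerQ`.** -/
theorem outerQ {γ : Equiv.Perm V} (hγ : γ ∈ Q₀) (hout : γ ∉ Γ₀) :
    8 < (commSet q γ (lin B 7)).ncard := by
  obtain ⟨M, hm, hγ'⟩ := (hQ γ).1 hγ
  obtain ⟨⟨o, i, j⟩, -, hp⟩ := List.any_eq_true.1 (List.all_eq_true.1 qL_pos M hm)
  simp only [posOK, Bool.and_eq_true, Nat.blt_eq, eqM_iff] at hp
  obtain ⟨⟨⟨hi, hj⟩, he⟩, hd⟩ := hp
  cases o
  · rw [cond_false] at he
    obtain ⟨δ, hδ, hδ', -⟩ := short.exists_of_mem hM (mem_prodList.2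
      ⟨_, List.getD_eq_getElem _ [] hi ▸ List.getElem_mem hi,
        _, List.getD_eq_getElem _ [] hj ▸ List.getElem_mem hj, rfl⟩)
    exact absurd (hM.acts_eq hγ' (he ▸ hδ') ▸ hδ) hout
  · rw [cond_true] at hd
    obtain ⟨d, hd', e⟩ := List.any_eq_true.1 hd
    obtain rfl := eqM_iff.1 e
    have := List.all_eq_true.1 outer_ok d hd'
    simp only [Bool.and_eq_true, Nat.ble_eq] at this
    exact lt_of_lt_of_le (Nat.lt_of_succ_le this.2) (commSet_card hM (qL_good' hm) hγ' this.1)

/-- **The field `innerQ`.** -/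
theorem innerQ {γ : Equiv.Perm V} (hγ : γ ∈ Q₀) (hin : γ ∈ Γ₀) (hne : γ ≠ 1) :
    8 ≤ (commSet q γ (lin B 7)).ncard ∧
      ∀ k ∈ kernelSet q Q₀ (lin B 7), (∀ v, polar2 q (lin B 7) v = 0 → γ v = v → polar2 q k v = 0) →
        ∃ w, γ w + w = k := by
  obtain ⟨M, hm, hγ'⟩ := (hQ γ).1 hγ
  have hW : goodM Wm = true := by decide +kernel
  obtain ⟨ω, -, hω⟩ := hM.word Wit.wordW
  rw [wordW_eq] at hω
  have hcomm := hM.code_unique (hM.commute_W hω hin ▸ hγ'.mul hω) (hω.mul hγ')
    (good_comp (qL_good' hm) hW) (good_comp hW (qL_good' hm))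
  have h := List.all_eq_true.1 qL_outer_W M hm
  rw [eqM_iff.2 hcomm, Bool.not_true, Bool.false_or, Bool.or_eq_true] at h
  rcases h with h | h
  · exact absurd (hM.acts_eq hγ' (eqM_iff.1 h ▸ hM.acts_idM)) hne
  obtain ⟨d, hd, e⟩ := List.any_eq_true.1 h
  obtain rfl := eqM_iff.1 e
  have h := List.all_eq_true.1 inner_ok d hd
  simp only [innerOK, Bool.and_eq_true, Nat.ble_eq, List.all_eq_true, Nat.blt_eq, Nat.beq_eq,
    Bool.not_eq_true', Bool.or_eq_true, List.any_eq_true] at h
  obtain ⟨⟨hwit, hlen⟩, hvs, hks⟩ := h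
  refine ⟨hlen.trans (commSet_card hM (qL_good' hm) hγ' hwit), fun k hk hperp => ?_⟩
  obtain ⟨r, hr, rfl⟩ := hM.code_cases k
  rw [mem_kernel hM hQ hr] at hk
  rcases hks r (List.mem_range.2 hr) with (hh | ⟨v, hv, hb⟩) | ⟨w, -, hw⟩
  · rw [hk] at hh
    exact Bool.noConfusion hh
  · obtain ⟨⟨hv1, hv2⟩, hv3⟩ := hvs v hv
    have hz := hperp _ ((polar2_eq_zero hM (by norm_num) hv1).2 hv3) (by rw [hγ' v, hv2])
    rw [polar2_eq_zero hM hr hv1] at hz
    rw [hz] at hb
    exact Bool.noConfusion hb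
  · exact ⟨lin B w, by rw [act_add hM hγ', hw]⟩

end

/-- The list is the one of the normal subgroup `qSub`. -/
theorem qL_eq : qL = qList := by decide +kernel

theorem qSub_spec (hM : Model B Γ Γ₀ q) : QSpec B (qSub B) := fun γ => by
  rw [hM.mem_qSub, qL_eq]

end Cfsg.Agent.J4Type.Orbits.LinQ
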