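import Cfsg.Agent.J4Type.Orbits.Normal

/-!
# The inner group of the model is perfect
-/

set_option autoImplicit false
set_option maxRecDepth 100000

namespace Cfsg.Agent.J4Type.Orbits

open Rep Subgroup

theorem code_rels : (eqM (code [1, 0]) (code [0, 0, 0, 0, 1]) && eqM (code (List.replicate 11 0)) idM &&
    eqM (code [2, 1]) (code [1, 1, 2]) && eqM (code [2, 2, 2, 2]) idM &&
    eqM (code ((List.replicate 15 [0, 1, 2]).flatten)) idM) = true := by decide +kernel

variable {V : Type*} [AddCommGroup V] {B : List V} {Γ Γ₀ : Subgroup (Equiv.Perm V)} {q : V → ZMod 2}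

theorem Model.perfect (hM : Model B Γ Γ₀ q) : ⁅Γ₀, Γ₀⁆ = Γ₀ := by
  have hex : ∀ k, ∃ γ ∈ Γ₀, PActs B γ (Orbits.gen k) := fun k => by
    obtain ⟨γ, h⟩ := hM.ex _ (inner_mem_all (gen_mem k))
    exact ⟨γ, hM.gen₀ ▸ subset_closure ⟨_, gen_mem k, h⟩, h⟩
  choose g hg eg using hex
  have hw : ∀ w : List ℕ, PActs B (w.map g).prod (code w) := fun w => by
    induction w with
    | nil => exact hM.acts_idM
    | cons k w ih => rw [List.map_cons, List.prod_cons]; exact (eg k).mul ih
  let Φ : ↥Γ₀ →* Abelianization ↥Γ₀ := Abelianization.of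
  have hrel : ∀ w u : List ℕ, code w = code u →
      (w.map fun k => Φ ⟨g k, hg k⟩).prod = (u.map fun k => Φ ⟨g k, hg k⟩).prod := by
    intro w u e
    have h : ∀ w : List ℕ, (w.map fun k => Φ ⟨g k, hg k⟩).prod =
        Φ ⟨(w.map g).prod, list_prod_mem fun x hx => by
          obtain ⟨k, -, rfl⟩ := List.mem_map.1 hx; exact hg k⟩ := fun w => by
      induction w with
      | nil => exact (map_one Φ).symm
      | cons k w ih => rw [List.map_cons, List.prod_cons, ih, ← map_mul]; rfl
    rw [h w, h u]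
    exact congrArg Φ (Subtype.ext (hM.acts_eq (e ▸ hw w) (hw u)))
  have hr := code_rels
  simp only [Bool.and_eq_true, eqM_iff] at hr
  obtain ⟨⟨⟨⟨r1, r2⟩, r3⟩, r4⟩, r5⟩ := hr
  have e1 := hrel _ _ r1
  have e2 := hrel _ [] r2
  have e3 := hrel _ _ r3
  have e4 := hrel _ [] r4
  have e5 := hrel _ [] r5
  simp only [List.replicate_succ, List.replicate_zero, List.flatten_cons, List.flatten_nil,
    List.cons_append, List.nil_append, List.map_cons, List.map_nil, List.prod_cons, List.prod_nil,
    mul_one] at e1 e2 e3 e4 e5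
  set x := Φ ⟨g 0, hg 0⟩
  set y := Φ ⟨g 1, hg 1⟩
  set f := Φ ⟨g 2, hg 2⟩
  have hx : x = 1 := by
    have h3 : x ^ 3 = 1 := mul_left_cancel (a := x) (mul_right_cancel (b := y) (by
      rw [mul_one, mul_comm x y, e1]
      simp only [pow_succ, pow_zero, one_mul, mul_assoc]))
    have h11 : x ^ 11 = 1 := by simp only [pow_succ, pow_zero, one_mul, mul_assoc]; exact e2
    have := pow_gcd_eq_one.2 ⟨h3, h11⟩
    norm_num at this
    exact this
  have hy : y = 1 := by
    have : y * f = y * (y * f) := by rw [← e3, mul_comm]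
    exact right_eq_mul.1 this
  rw [hx, hy] at e5
  simp only [one_mul] at e5
  have hf : f = 1 := by
    have h4 : f ^ 4 = 1 := by simp only [pow_succ, pow_zero, one_mul, mul_assoc]; exact e4
    have h15 : f ^ 15 = 1 := by simp only [pow_succ, pow_zero, one_mul, mul_assoc]; exact e5
    have := pow_gcd_eq_one.2 ⟨h4, h15⟩
    norm_num at this
    exact this
  refine le_antisymm (commutator_le.2 fun a ha b hb => ?_) fun γ hγ => ?_
  · rw [commutatorElement_def]
    exact mul_mem (mul_mem (mul_mem ha hb) (inv_mem ha)) (inv_mem hb)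
  · have htop : ∀ δ (hδ : δ ∈ Γ₀), Φ ⟨δ, hδ⟩ = 1 := by
      intro δ hδ
      have hδ' : δ ∈ closure {γ | ∃ M ∈ innerGens, PActs B γ M} := hM.gen₀ ▸ hδ
      revert hδ
      induction hδ' using Subgroup.closure_induction with
      | mem a ha =>
        intro _
        obtain ⟨M, hm, k⟩ := ha
        simp only [innerGens, List.mem_cons, List.not_mem_nil, or_false] at hm
        rcases hm with rfl | rfl | rfl
        · obtain rfl := hM.acts_eq k (eg 0); exact hx
        · obtain rfl := hM.acts_eq k (eg 1); exact hy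
        · obtain rfl := hM.acts_eq k (eg 2); exact hf
      | one => exact fun _ => map_one Φ
      | mul a b ha hb iha ihb =>
        intro _
        rw [← hM.gen₀] at ha hb
        show Φ (⟨a, ha⟩ * ⟨b, hb⟩) = 1
        rw [map_mul, iha ha, ihb hb, one_mul]
      | inv a ha iha =>
        intro _
        rw [← hM.gen₀] at ha
        show Φ (⟨a, ha⟩⁻¹) = 1
        rw [map_inv, iha ha, inv_one]
    have hk : (⟨γ, hγ⟩ : ↥Γ₀) ∈ commutator ↥Γ₀ := (QuotientGroup.eq_one_iff _).1 (htop γ hγ)
    have := Subgroup.mem_map_of_mem Γ₀.subtype hk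
    rwa [map_subtype_commutator] at this

end Cfsg.Agent.J4Type.Orbits
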