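import Cfsg.Agent.J4Type.Orbits.Checks

/-!
# The normal elementary abelian subgroup of the stabiliser of a point of the short orbit
-/

set_option autoImplicit false
set_option maxRecDepth 20000

namespace Cfsg.Agent.J4Type.Orbits

/-- The codes of the normal elementary abelian subgroup of order 32 of the stabiliser. -/
def qList : List (List ℕ) :=
  [[1, 2, 4, 8, 16, 32, 64, 128, 256, 512, 1024, 2048],
   [1, 5, 3, 257, 65, 129, 17, 33, 9, 1022, 1024, 2048],
   [1, 346, 348, 2849, 2657, 1376, 2926, 1176, 2934, 1856, 1368, 2399],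
   [1, 349, 347, 2935, 2927, 1177, 2656, 1377, 2848, 2022, 1368, 2399],
   [6, 2, 3, 66, 258, 514, 10, 1021, 18, 34, 1024, 2048],
   [6, 5, 4, 20, 12, 1019, 260, 516, 68, 132, 1024, 2048],
   [6, 346, 347, 2612, 2604, 1562, 2683, 1725, 2875, 1082, 1368, 2399],
   [6, 349, 348, 2877, 2685, 1723, 2602, 1564, 2610, 1476, 1368, 2399],
   [345, 2, 348, 3997, 3970, 2160, 3722, 2440, 4045, 2824, 1031, 2392],
   [345, 5, 347, 3732, 4051, 2257, 3803, 2345, 3780, 2806, 1031, 2392],
   [345, 346, 4, 1204, 1523, 3376, 1444, 3472, 1467, 3656, 1375, 2055],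
   [345, 349, 3, 1250, 1277, 3273, 1194, 3177, 1517, 3822, 1375, 2055],
   [350, 2, 347, 3720, 4047, 2826, 3999, 2989, 3968, 2162, 1031, 2392],
   [350, 5, 348, 3806, 3777, 2803, 3729, 2644, 4054, 2260, 1031, 2392],
   [350, 346, 3, 1278, 1249, 3858, 1518, 3821, 1193, 3178, 1375, 2055],
   [350, 349, 4, 1527, 1200, 4019, 1471, 3660, 1440, 3476, 1375, 2055],
   [3312, 1640, 2719, 1474, 3550, 488, 399, 3401, 2252, 1997, 618, 667],
   [3312, 1647, 2712, 1084, 3455, 441, 302, 3352, 2354, 1732, 618, 667],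
   [3312, 1840, 3015, 36, 2104, 3023, 1329, 1585, 3186, 3250, 821, 963],
   [3312, 1847, 3008, 130, 2497, 2753, 1224, 1855, 3284, 3300, 821, 963],
   [3319, 1640, 2712, 2023, 3748, 421, 938, 3164, 2998, 1920, 618, 667],
   [3319, 1647, 2719, 1857, 3933, 171, 595, 3410, 2832, 2006, 618, 667],
   [3319, 1840, 3008, 513, 2882, 2946, 1812, 1828, 3848, 3327, 821, 963],
   [3319, 1847, 3015, 1023, 3043, 3027, 1973, 1909, 3830, 3574, 821, 963],
   [3496, 1640, 3015, 4023, 1779, 3632, 2722, 662, 697, 2378, 621, 964],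
   [3496, 1647, 3008, 3857, 1802, 3902, 2907, 920, 543, 2332, 621, 964],
   [3496, 1840, 2719, 2641, 789, 1047, 3612, 2542, 1543, 565, 818, 668],
   [3496, 1847, 2712, 2991, 948, 1094, 3773, 2495, 2041, 828, 818, 668],
   [3503, 1640, 3008, 3274, 1233, 3874, 2527, 732, 155, 2136, 621, 964],
   [3503, 1647, 3015, 3380, 1136, 3955, 2430, 653, 357, 2385, 621, 964],
   [3503, 1840, 2712, 2348, 311, 1285, 3425, 2468, 1061, 807, 818, 668],
   [3503, 1847, 2719, 2442, 206, 1035, 3224, 2218, 1155, 881, 818, 668]]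

/-- The codes of its kernel set at the base point. -/
def kList : List ℕ :=
  [0, 7, 240, 247, 344, 351, 424, 431, 616, 623, 664, 671, 816, 823, 960, 967, 1026, 1029, 1266,
    1269, 1370, 1373, 1450, 1453, 1642, 1645, 1690, 1693, 1842, 1845, 1986, 1989, 2051, 2052, 2291,
    2292, 2395, 2396, 2475, 2476, 2667, 2668, 2715, 2716, 2867, 2868, 3011, 3012, 3073, 3078, 3313,
    3318, 3417, 3422, 3497, 3502, 3689, 3694, 3737, 3742, 3889, 3894, 4033, 4038]

end Cfsg.Agent.J4Type.Orbits
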