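import Cfsg.Agent.J4Type.Orbits.Code

/-!
# Witnesses for the normal elementary subgroups of the stabilisers: data
-/

set_option autoImplicit false

namespace Cfsg.Agent.J4Type.Orbits.StabData

/-- Data. -/
def shortWits : List (List ℕ × List ℕ) :=
  [([630, 2871, 2374, 2007, 2602, 1330, 2328, 1472, 1469, 406, 2712, 4059], [1736, 1533, 818, 3730, 3241, 753, 1200, 4021, 2003, 3110, 3158, 1448]),
   ([628, 1289, 1914, 183, 3300, 3827, 339, 1137, 3160, 1612, 2960, 3150], [626, 1291, 1918, 1633, 2933, 474, 1682, 2720, 2782, 2882, 3791, 1097])]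

/-- Data. -/
def longWits : List (List ℕ × List ℕ) :=
  [([2933, 1130, 1361, 3860, 3339, 2302, 1922, 426, 2354, 787, 962, 271], [2228, 684, 2423, 2579, 3468, 3325, 1670, 1470, 380, 1256, 710, 929]),
   ([2852, 3679, 992, 1392, 3022, 2798, 4086, 2431, 2850, 1895, 3006, 3657], [1204, 2500, 2245, 3451, 2307, 2596, 1847, 2493, 2580, 3774, 3596, 1610])]

/-- Data. -/
def longGood : List (List ℕ) :=
  [[1, 2, 4, 8, 16, 32, 64, 128, 256, 512, 1024, 2048],
   [3252, 4032, 2494, 895, 3521, 2302, 3049, 484, 3021, 3238, 1911, 2579],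
   [10, 1122, 2525, 1123, 3490, 1059, 40, 3378, 3250, 3033, 107, 442],
   [1562, 1129, 264, 632, 3521, 3325, 3821, 1511, 636, 3489, 1648, 2316],
   [1, 1129, 2257, 1123, 4026, 1099, 64, 3653, 3518, 2497, 107, 442],
   [10, 9, 264, 8, 520, 72, 40, 1015, 12, 24, 1024, 2048],
   [1553, 9, 2257, 1555, 115, 2302, 3717, 2133, 4046, 1144, 539, 182],
   [3263, 4043, 2226, 895, 4057, 2198, 2945, 659, 2753, 3774, 1911, 2579],
   [2724, 4043, 363, 1380, 3490, 32, 1324, 2353, 1283, 2782, 364, 677],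
   [1562, 2, 2525, 1555, 619, 2198, 3821, 2850, 3778, 1632, 539, 182],
   [2735, 2987, 2226, 271, 16, 1059, 1348, 1155, 2225, 775, 1287, 2847],
   [2735, 4032, 103, 1380, 4026, 72, 1348, 2630, 1039, 2246, 364, 677],
   [2724, 2976, 2494, 271, 520, 1099, 1324, 2036, 2493, 287, 1287, 2847],
   [3252, 2987, 363, 1812, 619, 3221, 3049, 3873, 1907, 1895, 796, 937],
   [3263, 2976, 103, 1812, 115, 3325, 2945, 3158, 1663, 1407, 796, 937],
   [1553, 1122, 4, 632, 4057, 3221, 3717, 1680, 880, 4025, 1648, 2316]]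

/-- A basis of the perp of the code `7`. -/
def perpBasis : List ℕ := [1, 2, 4, 24, 40, 72, 136, 264, 520, 1024, 2048]

/-- Coordinates in this basis. -/
def perpCoord : List ℕ := [1, 2, 4, 0, 8, 16, 32, 64, 128, 256, 512, 1024]

end Cfsg.Agent.J4Type.Orbits.StabData
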