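import Cfsg.Agent.J4Type.Orbits.Checks
import Cfsg.Agent.J4Type.Orbits.NormalData
import Cfsg.Agent.J4Type.Orbits.StabData

/-!
# Checks on the lists of the two stabilisers
-/

set_option autoImplicit false
set_option Elab.async false
set_option maxRecDepth 100000

namespace Cfsg.Agent.J4Type.Orbits

open Rep

/-- The codes of the stabiliser of the base point of the long orbit in the inner group. -/
noncomputable def longIn : List (List ℕ) := prodList Long.codesA Long.codesB

/-- All codes of the stabiliser of the base point of the short orbit. -/
noncomputable def shortAll : List (List ℕ) := stabIn ++ stabOut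

/-- All codes of the stabiliser of the base point of the long orbit. -/
noncomputable def longAll : List (List ℕ) := longIn ++ longIn.map (comp Long.S0c)

/-- Every involution outside `Q` has a conjugate by a witness with which it does not commute. -/
noncomputable def witOK (S inner Q : List (List ℕ)) (gs : List (List ℕ × List ℕ)) : Bool :=
  (gs.all fun p => goodM p.1 && goodM p.2 && eqM (comp p.1 p.2) idM &&
      inner.any fun m => eqM p.1 m) &&
    S.all fun a => goodM a && (!eqM (comp a a) idM || (Q.any fun m => eqM a m) ||
      gs.any fun p => !eqM (comp a (comp p.1 (comp a p.2))) (comp (comp p.1 (comp a p.2)) a))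

/-- The first bit of a vector, as a mask. -/
noncomputable def lowBit (x : ℕ) : ℕ :=
  (((List.range 12).find? fun i => !Nat.beq (Nat.land x (2 ^ i)) 0).map (2 ^ ·)).getD 0

/-- Reduction of a pair by pivots `(mask, vector, preimage)`. -/
noncomputable def red (P : List (ℕ × ℕ × ℕ)) (x p : ℕ) : ℕ × ℕ :=
  P.foldl (fun s e =>
    cond (Nat.beq (Nat.land s.1 e.1) 0) s (Nat.xor s.1 e.2.1, Nat.xor s.2 e.2.2)) (x, p)

/-- Pivots and kernel of a list of pairs. -/
noncomputable def elim (L : List (ℕ × ℕ)) : List (ℕ × ℕ × ℕ) × List ℕ :=
  L.foldl (fun st xp =>
    let r := red st.1 xp.1 xp.2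
    cond (Nat.beq r.1 0) (st.1, st.2 ++ [r.2]) (st.1 ++ [(lowBit r.1, r.1, r.2)], st.2)) ([], [])

/-- The fixed vectors of `g` in the span of `pb` lie in a space of sixteen vectors. -/
noncomputable def fixOK (pb g : List ℕ) : Bool :=
  let e := elim (pb.map fun b => (Nat.xor (app g b) b, b))
  let L := (List.range 12).map fun i => (red e.1 (2 ^ i) 0).2
  pb.all fun b => (List.range 16).any fun t =>
    Nat.beq (Nat.xor (app L (Nat.xor (app g b) b)) b) (app e.2 t)

/-- The square lies in `Q` or the fixed space is small. -/
noncomputable def smallOK (S Q : List (List ℕ)) (pb : List ℕ) : Bool :=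
  S.all fun g => goodM g && ((Q.any fun m => eqM (comp g g) m) || fixOK pb g)

theorem wit_short : witOK shortAll stabIn qList StabData.shortWits = true := by
  decide +kernel

theorem wit_long : witOK longAll longIn StabData.longGood StabData.longWits = true := by
  decide +kernel

theorem small_short : smallOK shortAll qList StabData.perpBasis = true := by
  decide +kernel

theorem long_good_length : Nat.beq StabData.longGood.length 16 = true := by decide +kernel

/-- The perp of the code `7` is spanned by the listed basis. -/
theorem perp_span : ((List.range 4096).all fun r =>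
    !Nat.beq ((qv (Nat.xor r Short.v0) + qv r + qv Short.v0) % 2) 0 ||
      Nat.beq (app StabData.perpBasis (app StabData.perpCoord r)) r) = true := by
  decide +kernel

theorem perp_data : (Nat.beq StabData.perpBasis.length 11 &&
    (StabData.perpBasis.all fun b => Nat.blt b 4096) &&
    StabData.perpCoord.all fun c => Nat.blt c 2048) = true := by
  decide +kernel

/-- The singular codes lie in the two orbits. -/
theorem sing_cover : ((List.range 4096).all fun r =>
    Nat.beq r 0 || !Nat.beq (qv r) 0 || bit Short.orbBits r || bit Long.orbBits r) = true := by
  decide +kernel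

end Cfsg.Agent.J4Type.Orbits
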