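import Cfsg.Agent.J4Type.Orbits.Normal
import Cfsg.Agent.J4Type.Orbits.StabCheck

/-!
# Normal elementary subgroups of the stabiliser of a singular vector, and small fixed spaces
-/

set_option autoImplicit false
set_option maxRecDepth 100000

namespace Cfsg.Agent.J4Type.Orbits

open Rep Subgroup

variable {V : Type*} [AddCommGroup V] {B : List V} {Γ Γ₀ : Subgroup (Equiv.Perm V)}
  {q : V → ZMod 2}

/-- The inverse has the code of the inverse. -/
theorem PActs.inverse (hM : Model B Γ Γ₀ q) {γ : Equiv.Perm V} {M N : List ℕ} (h : PActs B γ M)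
    (e : eqM (comp M N) idM = true) : PActs B γ⁻¹ N := fun r => by
  rw [Equiv.Perm.inv_def, Equiv.symm_apply_eq, h]
  have h1 := hM.acts_idM r
  rw [← eqM_iff.1 e, Equiv.Perm.one_apply] at h1
  exact h1.trans (congrArg (lin B) (app_app M N r))

/-- A normal elementary abelian subgroup of a stabiliser has its codes in the exceptional list. -/
theorem codes_of_normal (hM : Model B Γ Γ₀ q) {v : V} {S inner Q : List (List ℕ)}
    {gs : List (List ℕ × List ℕ)} (hok : witOK S inner Q gs = true)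
    (hS : ∀ γ ∈ Γ, γ v = v → ∃ M ∈ S, PActs B γ M)
    (hin : ∀ M ∈ inner, ∃ γ ∈ Γ, γ v = v ∧ PActs B γ M)
    {A : Subgroup (Equiv.Perm V)} (hA : A ≤ Γ) (hfix : ∀ a ∈ A, a v = v)
    (hn : ∀ γ ∈ Γ, γ v = v → ∀ a ∈ A, γ * a * γ⁻¹ ∈ A) (he : ∀ a ∈ A, a * a = 1)
    {a : Equiv.Perm V} (ha : a ∈ A) : ∃ M ∈ Q, PActs B a M := by
  simp only [witOK, Bool.and_eq_true, List.all_eq_true, Bool.or_eq_true, List.any_eq_true,
    Bool.not_eq_true', ← Bool.not_eq_true] at hok
  obtain ⟨hg, hSS⟩ := hok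
  obtain ⟨M, hMS, hc⟩ := hS a (hA ha) (hfix a ha)
  obtain ⟨hgood, (e | ⟨N, hN, e⟩) | ⟨p, hp, e⟩⟩ := hSS M hMS
  · refine absurd (eqM_iff.2 ?_) e
    refine hM.code_unique (he a ha ▸ hc.mul hc) hM.acts_idM (good_comp hgood hgood) good_idM
  · exact ⟨N, hN, eqM_iff.1 e ▸ hc⟩
  · exfalso
    obtain ⟨⟨⟨h1, h2⟩, hi⟩, m, hm, em⟩ := hg p hp
    obtain ⟨γ, hγ, hγv, hγc⟩ := hin m hm
    rw [← eqM_iff.1 em] at hγc
    have hb := hn γ hγ hγv a ha
    have hcb : PActs B (γ * a * γ⁻¹) (comp p.1 (comp M p.2)) := by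
      rw [mul_assoc]
      exact hγc.mul (hc.mul (hγc.inverse hM hi))
    have hgb : goodM (comp p.1 (comp M p.2)) = true := good_comp h1 (good_comp hgood h2)
    have hcomm : a * (γ * a * γ⁻¹) = γ * a * γ⁻¹ * a := by
      rw [eq_inv_of_mul_eq_one_left (he _ (A.mul_mem ha hb)), mul_inv_rev,
        inv_eq_of_mul_eq_one_right (he a ha), inv_eq_of_mul_eq_one_right (he _ hb)]
    exact e (eqM_iff.2 (hM.code_unique (hcomm ▸ hc.mul hcb) (hcb.mul hc) (good_comp hgood hgb)
      (good_comp hgb hgood)))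

/-- The codes of the stabiliser of the base point of a certified orbit. -/
theorem stab_codes (hM : Model B Γ Γ₀ q) {v₀ v₁ n bits : ℕ} {tree : List (ℕ × ℕ × ℕ)}
    {wA A wB Bc : List (List ℕ)} {wU S0c : List ℕ}
    (C : Cert v₀ v₁ n bits tree wA A wB Bc wU S0c) {γ : Equiv.Perm V} (hγ : γ ∈ Γ)
    (hfix : γ (lin B v₀) = lin B v₀) :
    ∃ M ∈ prodList A Bc ++ (prodList A Bc).map (comp S0c), PActs B γ M := by
  by_cases h : γ ∈ Γ₀
  · obtain ⟨M, hm, e⟩ := C.stab_inner hM h hfix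
    exact ⟨M, List.mem_append_left _ hm, e⟩
  · obtain ⟨M, hm, e⟩ := C.stab_outer hM hγ h hfix
    exact ⟨M, List.mem_append_right _ hm, e⟩

/-- The value of the form on a code. -/
theorem qv_zero_of_q (hM : Model B Γ Γ₀ q) {r : ℕ} (hr : r < 4096) (h : q (lin B r) = 0) :
    qv r = 0 := by
  rw [hM.q_eq r hr, ZMod.natCast_eq_zero_iff_even, Nat.even_iff] at h
  have : qv r < 2 := Nat.mod_lt _ (by norm_num)
  omega

/-- A normal elementary abelian subgroup of order at least 32 of the stabiliser of a singular vector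
is conjugate into the exceptional subgroup of the stabiliser of the code `7`. -/
theorem stab_of_model (hM : Model B Γ Γ₀ q) (v : V) (hv : v ≠ 0) (hq : q v = 0)
    (A : Subgroup (Equiv.Perm V)) (hA : A ≤ Γ) (hfix : ∀ a ∈ A, a v = v)
    (hn : ∀ γ ∈ Γ, γ v = v → ∀ a ∈ A, γ * a * γ⁻¹ ∈ A) (he : ∀ a ∈ A, a * a = 1)
    (h32 : 32 ≤ Nat.card A) :
    ∃ γ ∈ Γ, γ v = lin B Short.v0 ∧ ∀ a ∈ A, γ * a * γ⁻¹ ∈ qSub B := by
  have := hM.fin
  obtain ⟨r, hr, rfl⟩ := hM.code_cases v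
  have hr0 : r ≠ 0 := fun e => hv (by rw [e, lin_zero])
  have hcov := List.all_eq_true.1 sing_cover r (List.mem_range.2 hr)
  simp only [Bool.or_eq_true, Nat.beq_eq, Bool.not_eq_true', ← Bool.not_eq_true] at hcov
  -- transport the subgroup to a base point
  have move : ∀ δ ∈ Γ₀, ∀ w, δ w = lin B r →
      (∀ a ∈ A.map (MulAut.conj δ⁻¹).toMonoidHom, a ∈ Γ ∧ a w = w) ∧
      (∀ γ ∈ Γ, γ w = w → ∀ a ∈ A.map (MulAut.conj δ⁻¹).toMonoidHom,
        γ * a * γ⁻¹ ∈ A.map (MulAut.conj δ⁻¹).toMonoidHom) ∧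
      (∀ a ∈ A.map (MulAut.conj δ⁻¹).toMonoidHom, a * a = 1) := by
    intro δ hδ w hw
    have hδΓ := hM.le hδ
    refine ⟨?_, ?_, ?_⟩
    · rintro _ ⟨a, ha, rfl⟩
      refine ⟨?_, ?_⟩
      · simpa using mul_mem (mul_mem (inv_mem hδΓ) (hA ha)) hδΓ
      · show (δ⁻¹ * a * δ⁻¹⁻¹) w = w
        rw [inv_inv, Equiv.Perm.mul_apply, Equiv.Perm.mul_apply, hw, hfix a ha,
          Equiv.Perm.inv_def, Equiv.symm_apply_eq, hw]
    · rintro γ hγ hγw _ ⟨a, ha, rfl⟩
      have h1 : (δ * γ * δ⁻¹) (lin B r) = lin B r := by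
        rw [Equiv.Perm.mul_apply, Equiv.Perm.mul_apply,
          show δ⁻¹ (lin B r) = w by rw [Equiv.Perm.inv_def, Equiv.symm_apply_eq, hw], hγw, hw]
      refine ⟨_, hn _ (mul_mem (mul_mem hδΓ hγ) (inv_mem hδΓ)) h1 a ha, ?_⟩
      show δ⁻¹ * _ * δ⁻¹⁻¹ = γ * (δ⁻¹ * a * δ⁻¹⁻¹) * γ⁻¹
      group
    · rintro _ ⟨a, ha, rfl⟩
      rw [← map_mul, he a ha, map_one]
  rcases hcov with ((e | e) | hb) | hb
  · exact absurd e hr0
  · exact absurd (qv_zero_of_q hM hr hq) e
  · obtain ⟨δ, hδ, hd⟩ := short.reach hM hb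
    obtain ⟨m1, m2, m3⟩ := move δ hδ _ hd
    refine ⟨δ⁻¹, inv_mem (hM.le hδ), ?_, fun a ha => ?_⟩
    · rw [Equiv.Perm.inv_def, Equiv.symm_apply_eq]; exact hd.symm
    · obtain ⟨M, hMQ, hc⟩ := codes_of_normal hM wit_short (fun γ hγ hf => stab_codes hM short hγ hf)
        (fun M hm => by
          obtain ⟨γ, h1, h2, h3⟩ := short.exists_of_mem hM hm
          exact ⟨γ, hM.le h1, h3, h2⟩)
        (fun a ha => (m1 a ha).1) (fun a ha => (m1 a ha).2) m2 m3
        (a := δ⁻¹ * a * δ⁻¹⁻¹) ⟨a, ha, rfl⟩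
      exact hM.mem_qSub.2 ⟨M, hMQ, hc⟩
  · exfalso
    classical
    obtain ⟨δ, hδ, hd⟩ := long.reach hM hb
    obtain ⟨m1, m2, m3⟩ := move δ hδ _ hd
    set A' := A.map (MulAut.conj δ⁻¹).toMonoidHom with hA'
    have hex : ∀ a : A', ∃ i : Fin StabData.longGood.length,
        PActs B (a : Equiv.Perm V) StabData.longGood[i] := by
      intro a
      obtain ⟨M, hMQ, hc⟩ := codes_of_normal hM wit_long (fun γ hγ hf => stab_codes hM long hγ hf)
        (fun M hm => by
          obtain ⟨γ, h1, h2, h3⟩ := long.exists_of_mem hM hm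
          exact ⟨γ, hM.le h1, h3, h2⟩)
        (fun a ha => (m1 a ha).1) (fun a ha => (m1 a ha).2) m2 m3 a.2
      obtain ⟨i, hi, rfl⟩ := List.getElem_of_mem hMQ
      exact ⟨⟨i, hi⟩, hc⟩
    choose f hf using hex
    have h1 : Nat.card A' ≤ Nat.card (Fin StabData.longGood.length) :=
      Nat.card_le_card_of_injective f fun a b hab =>
        Subtype.ext (hM.acts_eq (hf a) (hab ▸ hf b))
    rw [Nat.card_fin, Nat.eq_of_beq_eq_true long_good_length, hA',
      Nat.card_congr (A.equivMapOfInjective _ (MulAut.conj δ⁻¹).injective).symm.toEquiv] at h1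
    omega

/-- Elements of order four modulo the exceptional subgroup fix few vectors of the perp. -/
theorem small_of_model (hM : Model B Γ Γ₀ q) (γ : Equiv.Perm V) (hγ : γ ∈ Γ)
    (hfix : γ (lin B Short.v0) = lin B Short.v0) (hsq : γ * γ ∉ qSub B) :
    {v : V | polar2 q (lin B Short.v0) v = 0 ∧ γ v = v}.ncard ≤ 16 := by
  classical
  obtain ⟨g, hg, hc⟩ := stab_codes hM short hγ hfix
  have h := List.all_eq_true.1 small_short g hg
  simp only [Bool.and_eq_true, Bool.or_eq_true, List.any_eq_true] at h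
  obtain ⟨hgood, ⟨m, hm, e⟩ | hfx⟩ := h
  · exact absurd (hM.mem_qSub.2 ⟨m, hm, eqM_iff.1 e ▸ hc.mul hc⟩) hsq
  set pb := StabData.perpBasis with hpb
  set pc := StabData.perpCoord
  have hd := perp_data
  simp only [Bool.and_eq_true, List.all_eq_true, Nat.blt_eq, Nat.beq_eq] at hd
  obtain ⟨⟨hlen, hpbl⟩, hpcl⟩ := hd
  have hpblt : ∀ c, app pb c < 4096 := fun c => app_lt (n := 12) hpbl c
  set e := elim (pb.map fun b => (Nat.xor (app g b) b, b)) with he
  set L := (List.range 12).map fun i => (red e.1 (2 ^ i) 0).2 with hL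
  simp only [fixOK, List.all_eq_true, List.any_eq_true, List.mem_range, Nat.beq_eq] at hfx
  let F : ℕ → ℕ := fun c => app L (app g (app pb c) ^^^ app pb c) ^^^ app pb c
  have hF : ∀ a b, F (a ^^^ b) = F a ^^^ F b := by
    intro a b
    simp only [F, app_xor]
    ac_rfl
  have hbase : ∀ i < 11, ∃ t < 16, F (2 ^ i) = app e.2 t := by
    intro i hi
    obtain ⟨t, ht, e'⟩ := hfx _ (List.getElem_mem (show i < pb.length by rw [hlen]; exact hi))
    refine ⟨t, ht, ?_⟩
    simp only [F, app_two_pow pb i (show i < pb.length by rw [hlen]; exact hi)]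
    exact e'
  have himg : ∀ n, n ≤ 11 → ∀ r < 2 ^ n, ∃ t < 16, F r = app e.2 t := by
    intro n
    induction n with
    | zero =>
      intro _ r hr
      obtain rfl : r = 0 := by simpa using hr
      exact ⟨0, by norm_num, by simp [F, Rep.app_zero]⟩
    | succ n ih =>
      intro hn r hr
      by_cases hlt : r < 2 ^ n
      · exact ih (by omega) r hlt
      have hlt' : r ^^^ 2 ^ n < 2 ^ n := by
        refine Nat.lt_pow_two_of_testBit _ fun i hi => ?_
        rw [Nat.testBit_xor, Nat.testBit_two_pow]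
        rcases Nat.eq_or_lt_of_le hi with rfl | hi'
        · rw [Nat.testBit_eq_decide_div_mod_eq, show r / 2 ^ n = 1 from
            Nat.div_eq_of_lt_le (by rw [one_mul]; omega)
              (by rw [show (1 + 1) * 2 ^ n = 2 ^ (n + 1) by ring]; exact hr)]
          simp
        · rw [Nat.testBit_eq_false_of_lt
            (lt_of_lt_of_le hr (Nat.pow_le_pow_right Nat.two_pos hi'))]
          simp [Nat.ne_of_lt hi']
      obtain ⟨t, ht, e1⟩ := ih (by omega) _ hlt'
      obtain ⟨t', ht', e2⟩ := hbase n (by omega)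
      refine ⟨t ^^^ t', Nat.xor_lt_two_pow (n := 4) ht ht', ?_⟩
      rw [app_xor, ← e1, ← e2, ← hF, Nat.xor_assoc, Nat.xor_self, Nat.xor_zero]
  have hsub : {v : V | polar2 q (lin B Short.v0) v = 0 ∧ γ v = v} ⊆
      (((Finset.range 16).image fun t => lin B (app e.2 t)) : Finset V) := by
    rintro v ⟨hp, hv⟩
    obtain ⟨r, hr, rfl⟩ := hM.code_cases v
    have hpar : (qv (r ^^^ Short.v0) + qv r + qv Short.v0) % 2 = 0 := by
      rw [polar2, add_comm (lin B Short.v0), ← lin_xor hM.two,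
        hM.q_eq _ (Nat.xor_lt_two_pow (n := 12) hr (show Short.v0 < 2 ^ 12 by decide)), hM.q_eq r hr,
        hM.q_eq _ (show Short.v0 < 4096 by decide), ← Nat.cast_add, ← Nat.cast_add, ZMod.natCast_eq_zero_iff_even,
        Nat.even_iff] at hp
      omega
    have hsp := List.all_eq_true.1 perp_span r (List.mem_range.2 hr)
    simp only [Bool.or_eq_true, Nat.beq_eq, Bool.not_eq_true', ← Bool.not_eq_true] at hsp
    have hrr : app pb (app pc r) = r := hsp.resolve_left fun e0 => e0 hpar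
    obtain ⟨t, ht, et⟩ := himg 11 le_rfl _ (app_lt (n := 11) hpcl r)
    have hd0 : app g r ^^^ r = 0 := by
      rw [hc] at hv
      rw [hM.lin_inj (app_lt_of_good hgood r) hr hv, Nat.xor_self]
    simp only [F] at et
    rw [show app pb (app StabData.perpCoord r) = r from hrr, hd0, Rep.app_zero, Nat.zero_xor] at et
    simp only [Finset.coe_image, Finset.coe_range, Set.mem_image, Set.mem_Iio]
    exact ⟨t, ht, by rw [← et]⟩
  refine (Set.ncard_le_ncard hsub (Finset.finite_toSet _)).trans ?_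
  rw [Set.ncard_coe_finset]
  exact Finset.card_image_le.trans (Finset.card_range 16).le

end Cfsg.Agent.J4Type.Orbits
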