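import Cfsg.Agent.J4Type.Orbits.Normal
import Cfsg.Agent.J4Type.Orbits.Perfect
import Cfsg.Agent.J4Type.Orbits.Fusion
import Cfsg.Agent.J4Type.Orbits.Stab
import Cfsg.Agent.J4Type.Orbits.LinQ
import Cfsg.Agent.J4Type.Orbits.Cent

/-!
# The finite facts of the model
-/

set_option autoImplicit false

namespace Cfsg.Agent.J4Type.Orbits

open Rep

variable {V : Type*} [AddCommGroup V] {B : List V} {Γ Γ₀ : Subgroup (Equiv.Perm V)} {q : V → ZMod 2}

/-- All the finite facts, granted the one on centralisers of elements of order three. -/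
theorem Model.linFacts_of_cent (hM : Model B Γ Γ₀ q)
    (hcent : ∀ i ∈ Γ₀, ∀ x ∈ Γ₀, ∀ r ∈ Γ₀, i * i = 1 → i ≠ 1 → x * x * x = 1 →
      (∃ γ ∈ Γ₀, γ * x ≠ x * γ) → i * x = x * i → r * x = x * r → Odd (orderOf r) →
      i * r * i * r ∈ Subgroup.zpowers x → r ∈ Subgroup.zpowers x) :
    LinFacts Γ Γ₀ q (lin B Short.v0) (lin B 8) (qSub B) where
  le := hM.le
  add := fun γ hγ => hM.map_add hγ
  perfect := hM.perfect
  ne_zero := hM.base_ne
  sing := hM.base_sing
  partner := hM.base_partner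
  Q_le := hM.qSub_le
  Q_fix := fun γ h => hM.qSub_fix h
  Q_card := hM.card_qSub
  kernel := hM.kernel
  stab := fun v hv hq A hA hf hn he h => stab_of_model hM v hv hq A hA hf hn he h
  sect := LinQ.sect hM (LinQ.qSub_spec hM) hM.base_partner
  witness := LinQ.witness hM (LinQ.qSub_spec hM)
  small := small_of_model hM
  outerQ := fun _ h => LinQ.outerQ hM (LinQ.qSub_spec hM) h
  innerQ := fun _ h => LinQ.innerQ hM (LinQ.qSub_spec hM) h
  second := LinQ.second hM (LinQ.qSub_spec hM)
  cent := hcent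

/-- **All the finite facts of the model.** -/
theorem Model.linFacts (hM : Model B Γ Γ₀ q) :
    LinFacts Γ Γ₀ q (lin B Short.v0) (lin B 8) (qSub B) :=
  hM.linFacts_of_cent hM.cent

end Cfsg.Agent.J4Type.Orbits
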