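import Cfsg.Agent.J4Type.Orbits.Model

/-!
# A certified orbit and point stabiliser

The stabiliser is a product of two lists of elements given by words; the orbit times this list has the
order of the group, so the list is complete.
-/

set_option autoImplicit false
set_option maxRecDepth 100000

namespace Cfsg.Agent.J4Type.Orbits

open Rep Subgroup MulAction

/-- No repetition. -/
noncomputable def distinctB {α : Type} (eqb : α → α → Bool) : List α → Bool
  | [] => true
  | a :: l => (l.all fun b => !eqb a b) && distinctB eqb l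

theorem distinctB_get {α : Type} {eqb : α → α → Bool} (hrefl : ∀ a b, a = b → eqb a b = true) :
    ∀ {l : List α}, distinctB eqb l = true → ∀ {i j : ℕ} (hi : i < l.length) (hj : j < l.length),
      l[i] = l[j] → i = j
  | [], _, i, _, hi, _, _ => absurd hi (Nat.not_lt_zero i)
  | a :: l, h, 0, 0, _, _, _ => rfl
  | a :: l, h, 0, j + 1, _, hj, e => by
    simp only [distinctB, Bool.and_eq_true, List.all_eq_true, Bool.not_eq_true'] at h
    have := h.1 _ (List.getElem_mem (show j < l.length by simpa using hj))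
    rw [hrefl _ _ (by simpa using e)] at this
    exact Bool.noConfusion this
  | a :: l, h, i + 1, 0, hi, _, e => by
    simp only [distinctB, Bool.and_eq_true, List.all_eq_true, Bool.not_eq_true'] at h
    have := h.1 _ (List.getElem_mem (show i < l.length by simpa using hi))
    rw [hrefl _ _ (by simpa using e.symm)] at this
    exact Bool.noConfusion this
  | a :: l, h, i + 1, j + 1, hi, hj, e => by
    simp only [distinctB, Bool.and_eq_true] at h
    exact congrArg (· + 1) (distinctB_get hrefl h.2 (by simpa using hi) (by simpa using hj) (by simpa using e))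

/-- The products of two lists. -/
noncomputable def prodList (A B : List (List ℕ)) : List (List ℕ) := A.flatMap fun a => B.map (comp a)

theorem mem_prodList {A B : List (List ℕ)} {M : List ℕ} :
    M ∈ prodList A B ↔ ∃ a ∈ A, ∃ b ∈ B, comp a b = M := by
  simp [prodList]

/-- A certified orbit and stabiliser. -/
structure Cert (v₀ v₁ n : ℕ) (bits : ℕ) (tree : List (ℕ × ℕ × ℕ)) (wA A wB Bc : List (List ℕ))
    (wU S0c : List ℕ) : Prop where
  small : Nat.blt v₀ 4096 && Nat.blt v₁ 4096 = true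
  tree_ok : treeOK tree (Nat.shiftLeft 1 v₀) bits = true
  closed : ((List.range 4096).all fun r => !bit bits r || (bit bits (app Xm r) &&
    bit bits (app Ym r) && bit bits (app F0 r) && bit bits (app Sg r))) = true
  count : ((List.range 4096).filter (bit bits)).length = n
  base : bit bits v₀ = true
  eqA : wA.map code = A
  eqB : wB.map code = Bc
  A_ok : (distinctB Nat.beq (A.map fun a => app a v₁) && A.all fun a => Nat.beq (app a v₀) v₀) = true
  B_ok : (distinctB eqM Bc && Bc.all fun b => Nat.beq (app b v₀) v₀ && Nat.beq (app b v₁) v₁) = true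
  total : n * (A.length * Bc.length) = 1330560
  outer : comp (code wU) Sg = S0c
  outer_fix : Nat.beq (app S0c v₀) v₀ = true

namespace Cert

variable {v₀ v₁ n bits : ℕ} {tree : List (ℕ × ℕ × ℕ)} {wA A wB Bc : List (List ℕ)} {wU S0c : List ℕ}
  (C : Cert v₀ v₁ n bits tree wA A wB Bc wU S0c) {V : Type*} [AddCommGroup V] {B : List V}
  {Γ Γ₀ : Subgroup (Equiv.Perm V)} {q : V → ZMod 2} (hM : Model B Γ Γ₀ q)
include C

theorem v₀_lt : v₀ < 4096 := by
  have h := C.small
  simp only [Bool.and_eq_true, Nat.blt_eq, decide_eq_true_eq] at h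
  exact h.1

theorem v₁_lt : v₁ < 4096 := by
  have h := C.small
  simp only [Bool.and_eq_true, Nat.blt_eq, decide_eq_true_eq] at h
  exact h.2

theorem bit_gen {r : ℕ} (hr : r < 4096) (h : bit bits r = true) {M : List ℕ} (hm : M ∈ allGens) :
    bit bits (app M r) = true := by
  have := List.all_eq_true.1 C.closed r (List.mem_range.2 hr)
  simp only [h, Bool.not_true, Bool.false_or, Bool.and_eq_true] at this
  simp only [allGens, List.mem_cons, List.not_mem_nil, or_false] at hm
  rcases hm with rfl | rfl | rfl | rfl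
  exacts [this.1.1.1, this.1.1.2, this.1.2, this.2]

include hM

/-- The points of the tree are images of the base point. -/
theorem reach {r : ℕ} (h : bit bits r = true) : ∃ γ ∈ Γ₀, γ (lin B v₀) = lin B r := by
  refine treeOK_sound (fun r => ∃ γ ∈ Γ₀, γ (lin B v₀) = lin B r) ?_ tree _ _ (fun s hs => ?_) C.tree_ok r h
  · rintro k p ⟨γ, hγ, hp⟩
    obtain ⟨δ, hδ, hd⟩ := hM.word [k]
    refine ⟨δ * γ, mul_mem hδ hγ, ?_⟩
    obtain ⟨ε, hε⟩ := hM.ex _ (inner_mem_all (gen_mem k))
    rw [Equiv.Perm.mul_apply, hp, hd]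
    show lin B (app (comp (gen k) idM) p) = _
    rw [← (hε.mul hM.acts_idM) p, Equiv.Perm.mul_apply, Equiv.Perm.one_apply, hε]
  · have : s = v₀ := by
      have h' := bit_insert (n := 0) (r := v₀) (s := s)
      rw [show Nat.lor 0 (Nat.shiftLeft 1 v₀) = Nat.shiftLeft 1 v₀ from Nat.zero_or _] at h'
      exact (h'.1 hs).resolve_left (by simp [bit_iff])
    exact ⟨1, one_mem _, by rw [this]; rfl⟩

/-- The orbit is invariant under the whole group. -/
theorem invariant {γ : Equiv.Perm V} (hγ : γ ∈ Γ) {r : ℕ} (hr : r < 4096) (h : bit bits r = true) :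
    ∃ s < 4096, bit bits s = true ∧ γ (lin B r) = lin B s := by
  rw [hM.gen] at hγ
  have hγ' := hM.mem_closure_gens hγ
  clear hγ
  induction hγ' using Submonoid.closure_induction_left with
  | one => exact ⟨r, hr, h, rfl⟩
  | mul_left x hx y _ ih =>
    obtain ⟨M, hm, k⟩ := hx
    obtain ⟨s, hs, hb, e⟩ := ih
    have hg : goodM M = true := by
      simp only [allGens, List.mem_cons, List.not_mem_nil, or_false] at hm
      have := gens_good
      simp only [Bool.and_eq_true] at this
      rcases hm with rfl | rfl | rfl | rfl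
      exacts [this.1.1.1.1.1, this.1.1.1.1.2, this.1.1.1.2, this.1.1.2]
    exact ⟨app M s, app_lt_of_good hg s, C.bit_gen hs hb hm, by rw [Equiv.Perm.mul_apply, e, k]⟩

/-- A product of the lists is the code of an element of the stabiliser. -/
theorem exists_of_mem {M : List ℕ} (h : M ∈ prodList A Bc) :
    ∃ γ ∈ Γ₀, PActs B γ M ∧ γ (lin B v₀) = lin B v₀ := by
  obtain ⟨a, ha, b, hb, rfl⟩ := mem_prodList.1 h
  have hA := C.A_ok
  have hB := C.B_ok
  simp only [Bool.and_eq_true, List.all_eq_true, Nat.beq_eq] at hA hB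
  have hav := hA.2 a ha
  have hbv := (hB.2 b hb).1
  rw [← C.eqA] at ha
  rw [← C.eqB] at hb
  obtain ⟨wa, -, rfl⟩ := List.mem_map.1 ha
  obtain ⟨wb, -, rfl⟩ := List.mem_map.1 hb
  obtain ⟨α, hα, ea⟩ := hM.word wa
  obtain ⟨β, hβ, eb⟩ := hM.word wb
  exact ⟨α * β, mul_mem hα hβ, ea.mul eb, by rw [Equiv.Perm.mul_apply, eb, hbv, ea, hav]⟩

/-- **The list is the whole stabiliser in the inner group.** -/
theorem stab_inner {γ : Equiv.Perm V} (hγ : γ ∈ Γ₀) (hfix : γ (lin B v₀) = lin B v₀) :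
    ∃ M ∈ prodList A Bc, PActs B γ M := by
  classical
  have := hM.fin
  set S := stabilizer ↥Γ₀ (lin B v₀) with hS
  have horb : Nat.card (orbit ↥Γ₀ (lin B v₀)) = n := by
    have hset : orbit ↥Γ₀ (lin B v₀) = ↑((((List.range 4096).filter (bit bits)).toFinset).image (lin B)) := by
      ext v
      simp only [Finset.coe_image, Set.mem_image, Finset.mem_coe, List.mem_toFinset, List.mem_filter,
        List.mem_range]
      constructor
      · rintro ⟨⟨δ, hδ⟩, rfl⟩
        obtain ⟨s, hs, hb, e⟩ := C.invariant hM (hM.le hδ) C.v₀_lt C.base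
        exact ⟨s, ⟨hs, hb⟩, e.symm⟩
      · rintro ⟨s, ⟨-, hb⟩, rfl⟩
        obtain ⟨δ, hδ, e⟩ := C.reach hM hb
        exact ⟨⟨δ, hδ⟩, e⟩
    rw [hset, Nat.card_coe_set_eq, Set.ncard_coe_finset, Finset.card_image_of_injOn ?_,
      List.toFinset_card_of_nodup ((List.nodup_range).filter _), C.count]
    intro a ha b hb e
    simp only [Finset.mem_coe, List.mem_toFinset, List.mem_filter, List.mem_range] at ha hb
    exact hM.lin_inj ha.1 hb.1 e
  have hn : 0 < n := by
    rw [← horb]
    have : Nonempty (orbit ↥Γ₀ (lin B v₀)) := ⟨⟨_, mem_orbit_self _⟩⟩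
    exact Nat.card_pos
  have hcard : Nat.card S = A.length * Bc.length := by
    have h := Nat.card_congr (orbitProdStabilizerEquivGroup ↥Γ₀ (lin B v₀))
    rw [Nat.card_prod, horb, hM.card, ← C.total] at h
    exact Nat.eq_of_mul_eq_mul_left hn h
  have hex : ∀ (i : Fin A.length) (j : Fin Bc.length), ∃ s : S,
      PActs B ((s : ↥Γ₀) : Equiv.Perm V) (comp A[i] Bc[j]) := fun i j => by
    obtain ⟨δ, hδ, e, hf⟩ := C.exists_of_mem hM
      (mem_prodList.2 ⟨A[i], List.getElem_mem i.2, Bc[j], List.getElem_mem j.2, rfl⟩)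
    exact ⟨⟨⟨δ, hδ⟩, hf⟩, e⟩
  choose f hf using hex
  have hinj : Function.Injective fun p : Fin A.length × Fin Bc.length => f p.1 p.2 := by
    rintro ⟨i, j⟩ ⟨k, l⟩ e
    dsimp only at e
    have hA := C.A_ok
    have hB := C.B_ok
    simp only [Bool.and_eq_true, List.all_eq_true, Nat.beq_eq] at hA hB
    have goodA : ∀ a ∈ A, ∃ α, PActs B α a ∧ goodM a = true := by
      rw [← C.eqA]; intro a ha
      obtain ⟨w, -, rfl⟩ := List.mem_map.1 ha
      obtain ⟨α, -, hα⟩ := hM.word w
      exact ⟨α, hα, good_code w⟩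
    have goodB : ∀ b ∈ Bc, ∃ β, PActs B β b ∧ goodM b = true := by
      rw [← C.eqB]; intro b hb
      obtain ⟨w, -, rfl⟩ := List.mem_map.1 hb
      obtain ⟨β, -, hβ⟩ := hM.word w
      exact ⟨β, hβ, good_code w⟩
    obtain ⟨α, hα, ga⟩ := goodA A[i] (List.getElem_mem i.2)
    obtain ⟨α', hα', ga'⟩ := goodA A[k] (List.getElem_mem k.2)
    obtain ⟨β, hβ, gb⟩ := goodB Bc[j] (List.getElem_mem j.2)
    obtain ⟨β', hβ', gb'⟩ := goodB Bc[l] (List.getElem_mem l.2)
    have h1 := hM.acts_eq (hf i j) (hα.mul hβ)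
    have h2 := hM.acts_eq (hf k l) (hα'.mul hβ')
    rw [e, h2] at h1
    have hb1 : β (lin B v₁) = lin B v₁ := (hβ v₁).trans (congrArg (lin B) (hB.2 _ (List.getElem_mem j.2)).2)
    have hb2 : β' (lin B v₁) = lin B v₁ := (hβ' v₁).trans (congrArg (lin B) (hB.2 _ (List.getElem_mem l.2)).2)
    have hv := congrArg (fun π : Equiv.Perm V => π (lin B v₁)) h1
    simp only [Equiv.Perm.mul_apply, hb1, hb2, hα v₁, hα' v₁] at hv
    have hk : (k : ℕ) = i := distinctB_get (fun a b h => by rw [h]; exact Nat.beq_refl b) hA.1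
      (i := k) (j := i) (by simp) (by simp)
      (by simpa using hM.lin_inj (app_lt_of_good ga' _) (app_lt_of_good ga _) hv)
    obtain rfl := Fin.ext hk
    rw [hM.acts_eq hα' hα] at h1
    have hl : (l : ℕ) = j := distinctB_get (fun a b h => by rw [h]; exact eqM_iff.2 rfl) hB.1 l.2 j.2
      (hM.code_unique hβ' ((mul_left_cancel h1) ▸ hβ) gb' gb)
    obtain rfl := Fin.ext hl
    rfl
  have hbij := (Nat.bijective_iff_injective_and_card _).2 ⟨hinj, by simp [hcard]⟩
  obtain ⟨⟨i, j⟩, hij⟩ := hbij.2 ⟨⟨γ, hγ⟩, hfix⟩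
  refine ⟨comp A[i] Bc[j], mem_prodList.2 ⟨A[i], List.getElem_mem i.2, Bc[j], List.getElem_mem j.2, rfl⟩, ?_⟩
  have := hf i j
  dsimp only at hij
  rwa [hij] at this

/-- The stabiliser outside the inner group. -/
theorem stab_outer {γ : Equiv.Perm V} (hγ : γ ∈ Γ) (hout : γ ∉ Γ₀)
    (hfix : γ (lin B v₀) = lin B v₀) : ∃ M ∈ (prodList A Bc).map (comp S0c), PActs B γ M := by
  obtain ⟨σ, hσΓ, hσ⟩ := hM.exists_sigma
  obtain ⟨υ, hυ, hu⟩ := hM.word wU
  have h0 : PActs B (υ * σ) S0c := C.outer ▸ hu.mul hσ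
  have hf0 : (υ * σ) (lin B v₀) = lin B v₀ := by rw [h0, Nat.eq_of_beq_eq_true C.outer_fix]
  obtain ⟨δ, hδ, rfl⟩ := (hM.cases_mem hσ hγ).resolve_left hout
  set ε := (υ * σ)⁻¹ * (σ * δ)
  have hε : ε ∈ Γ₀ := by
    have := mul_mem (hM.sigma_conj hσ (inv_mem hυ)) hδ
    rwa [show σ * υ⁻¹ * σ * δ = σ⁻¹ * υ⁻¹ * (σ * δ) by
      rw [inv_eq_of_mul_eq_one_right (hM.sigma_sq hσ)]; group, ← mul_inv_rev] at this
  have hεf : ε (lin B v₀) = lin B v₀ := by
    rw [Equiv.Perm.mul_apply, hfix, Equiv.Perm.inv_eq_iff_eq, hf0]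
  obtain ⟨M, hm, he⟩ := C.stab_inner hM hε hεf
  refine ⟨comp S0c M, List.mem_map.2 ⟨M, hm, rfl⟩, ?_⟩
  have := h0.mul he
  rwa [mul_inv_cancel_left] at this

end Cert

end Cfsg.Agent.J4Type.Orbits
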