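import Cfsg.Agent.J4Type.Orbits.Cert
import Cfsg.Agent.J4Type.Orbits.DataShort
import Cfsg.Agent.J4Type.Orbits.DataLong

/-!
# The two certified orbits
-/

set_option autoImplicit false
set_option Elab.async false
set_option maxRecDepth 100000

namespace Cfsg.Agent.J4Type.Orbits

open Rep

/-- The codes of the stabiliser of the base point of the short orbit in the inner group. -/
noncomputable def stabIn : List (List ℕ) := prodList Short.codesA Short.codesB

/-- The codes of the stabiliser of the base point of the short orbit outside it. -/
noncomputable def stabOut : List (List ℕ) := stabIn.map (comp Short.S0c)

/-- The orbit of length 693. -/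
theorem short : Cert Short.v0 Short.v1 693 Short.orbBits Short.orbTree Short.wordsA Short.codesA
    Short.wordsB Short.codesB Short.wordU Short.S0c where
  small := by decide +kernel
  tree_ok := by decide +kernel
  closed := by decide +kernel
  count := by decide +kernel
  base := by decide +kernel
  eqA := by decide +kernel
  eqB := by decide +kernel
  A_ok := by decide +kernel
  B_ok := by decide +kernel
  total := by decide +kernel
  outer := by decide +kernel
  outer_fix := by decide +kernel

/-- The orbit of length 1386. -/
theorem long : Cert Long.v0 Long.v1 1386 Long.orbBits Long.orbTree Long.wordsA Long.codesA
    Long.wordsB Long.codesB Long.wordU Long.S0c where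
  small := by decide +kernel
  tree_ok := by decide +kernel
  closed := by decide +kernel
  count := by decide +kernel
  base := by decide +kernel
  eqA := by decide +kernel
  eqB := by decide +kernel
  A_ok := by decide +kernel
  B_ok := by decide +kernel
  total := by decide +kernel
  outer := by decide +kernel
  outer_fix := by decide +kernel

end Cfsg.Agent.J4Type.Orbits
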