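import Cfsg.Agent.J4Type.Rep.Main

/-!
# Codes of the elements of the module model
-/

set_option autoImplicit false

namespace Cfsg.Agent.J4Type.Orbits

open Rep

/-- The identity map. -/
def idM : List ℕ := [1, 2, 4, 8, 16, 32, 64, 128, 256, 512, 1024, 2048]

/-- The composite of two maps. -/
noncomputable def comp (M N : List ℕ) : List ℕ := N.map (app M)

/-- Equality of two maps. -/
noncomputable def eqM : List ℕ → List ℕ → Bool
  | [], [] => true
  | a :: M, b :: N => Nat.beq a b && eqM M N
  | _, _ => false

theorem eqM_iff : ∀ {M N : List ℕ}, eqM M N = true ↔ M = N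
  | [], [] => by simp [eqM]
  | [], b :: N => by simp [eqM]
  | a :: M, [] => by simp [eqM]
  | a :: M, b :: N => by simp [eqM, eqM_iff]

/-- The generator with the given number. -/
noncomputable def gen (k : ℕ) : List ℕ := cond (Nat.beq k 0) Xm (cond (Nat.beq k 1) Ym F0)

/-- The map of a word in the generators, leftmost letter last. -/
noncomputable def code : List ℕ → List ℕ
  | [] => idM
  | k :: w => comp (gen k) (code w)

/-- A bit of a number. -/
noncomputable def bit (n r : ℕ) : Bool := Nat.beq (Nat.mod (Nat.shiftRight n r) 2) 1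

/-- The moved part of a code. -/
noncomputable def dM (M : List ℕ) (r : ℕ) : ℕ := Nat.xor r (app M r)

section Acts

variable {V : Type*} [AddCommGroup V] {B : List V}

theorem Acts.comp {T U : AddMonoid.End V} {M N : List ℕ} (h : Acts B T M) (k : Acts B U N) :
    Acts B (T * U) (comp M N) := fun r => by
  rw [AddMonoid.End.coe_mul, Function.comp_apply, k, h]
  exact congrArg (lin B) (app_app M N r).symm

theorem app_idM (r : ℕ) (hr : r < 4096) : app idM r = r := by
  have h : ((List.range 4096).all fun r => Nat.beq (app idM r) r) = true := by decide +kernel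
  exact Nat.eq_of_beq_eq_true (List.all_eq_true.1 h r (List.mem_range.2 hr))

/-- Two codes of one endomorphism agree. -/
theorem Acts.unique (hbij : Function.Bijective fun r : Fin 4096 => lin B r.1) {T : AddMonoid.End V}
    {M N : List ℕ} (hM : Acts B T M) (hN : Acts B T N) (r : ℕ) (h1 : app M r < 4096)
    (h2 : app N r < 4096) : app M r = app N r := by
  have h := hbij.1 (a₁ := ⟨app M r, h1⟩) (a₂ := ⟨app N r, h2⟩) ((hM r).symm.trans (hN r))
  exact congrArg Fin.val h

/-- An endomorphism is determined by its code. -/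
theorem Acts.eq (hbij : Function.Bijective fun r : Fin 4096 => lin B r.1) {T U : AddMonoid.End V}
    {M : List ℕ} (hT : Acts B T M) (hU : Acts B U M) : T = U := AddMonoidHom.ext fun v => by
  obtain ⟨r, rfl⟩ := hbij.2 v
  exact (hT r.1).trans (hU r.1).symm

end Acts

/-- A walk through the tree: each point is the image of an earlier one. -/
noncomputable def treeOK : List (ℕ × ℕ × ℕ) → ℕ → ℕ → Bool
  | [], seen, goal => Nat.beq seen goal
  | (r, p, k) :: l, seen, goal =>
    bit seen p && Nat.beq (app (gen k) p) r && treeOK l (Nat.lor seen (Nat.shiftLeft 1 r)) goal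

theorem bit_iff {n r : ℕ} : bit n r = true ↔ n.testBit r = true := by
  rw [bit, Nat.beq_eq, Nat.testBit_eq_decide_div_mod_eq, decide_eq_true_iff]
  show (n >>> r) % 2 = 1 ↔ _
  rw [Nat.shiftRight_eq_div_pow]

theorem bit_insert {n r s : ℕ} : bit (Nat.lor n (Nat.shiftLeft 1 r)) s = true ↔
    bit n s = true ∨ s = r := by
  rw [bit_iff, bit_iff]
  show (n ||| 1 <<< r).testBit s = true ↔ _
  rw [Nat.testBit_or, Bool.or_eq_true, Nat.one_shiftLeft, Nat.testBit_two_pow, decide_eq_true_iff,
    eq_comm (a := r)]

theorem treeOK_sound (P : ℕ → Prop) (hP : ∀ k p, P p → P (app (gen k) p)) :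
    ∀ (l : List (ℕ × ℕ × ℕ)) (seen goal : ℕ), (∀ r, bit seen r = true → P r) →
      treeOK l seen goal = true → ∀ r, bit goal r = true → P r
  | [], seen, goal, hs, h, r, hr => hs r (by rw [Nat.eq_of_beq_eq_true h]; exact hr)
  | (a, p, k) :: l, seen, goal, hs, h, r, hr => by
    simp only [treeOK, Bool.and_eq_true] at h
    refine treeOK_sound P hP l _ goal (fun s hs' => ?_) h.2 r hr
    rcases bit_insert.1 hs' with e | e
    · exact hs s e
    · rw [e, ← Nat.eq_of_beq_eq_true h.1.2]; exact hP k p (hs p h.1.1)

end Cfsg.Agent.J4Type.Orbits
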