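import Cfsg.Agent.J4Type.Orbits.Code
import Cfsg.Agent.J4Type.Rep.Form
import Cfsg.Agent.J4Type.Rep.Outer
import Mathlib.GroupTheory.GroupAction.Quotient

/-!
# The permutations of the model and certified point stabilisers
-/

set_option autoImplicit false
set_option maxRecDepth 100000

namespace Cfsg.Agent.J4Type.Orbits

open Rep Subgroup

variable {V : Type*} [AddCommGroup V]

/-- The permutation acts on the combinations of `B` as the map with code `M`. -/
def PActs (B : List V) (γ : Equiv.Perm V) (M : List ℕ) : Prop := ∀ r, γ (lin B r) = lin B (app M r)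

/-- The generators of the inner group. -/
def innerGens : List (List ℕ) := [Xm, Ym, F0]

/-- The generators of the whole group. -/
def allGens : List (List ℕ) := [Xm, Ym, F0, Sg]

/-- `Γ` and `Γ₀` are the groups of the codes, `q` is the form of the codes. -/
structure Model (B : List V) (Γ Γ₀ : Subgroup (Equiv.Perm V)) (q : V → ZMod 2) : Prop where
  two : ∀ v : V, v + v = 0
  len : B.length = 12
  bij : Function.Bijective fun r : Fin 4096 => lin B r.1
  ex : ∀ M ∈ allGens, ∃ γ : Equiv.Perm V, PActs B γ M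
  gen₀ : Γ₀ = closure {γ | ∃ M ∈ innerGens, PActs B γ M}
  gen : Γ = closure {γ | ∃ M ∈ allGens, PActs B γ M}
  card : Nat.card Γ₀ = 1330560
  q_eq : ∀ r < 4096, q (lin B r) = (qv r : ZMod 2)

/-- A map of twelve codes below `4096`. -/
noncomputable def goodM (M : List ℕ) : Bool :=
  Nat.beq M.length 12 && M.all fun a => Nat.blt a 4096

theorem goodM_iff {M : List ℕ} : goodM M = true ↔ M.length = 12 ∧ ∀ a ∈ M, a < 4096 := by
  simp [goodM, Nat.blt_eq]

theorem app_lt_of_good {M : List ℕ} (h : goodM M = true) (r : ℕ) : app M r < 4096 :=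
  app_lt (n := 12) (goodM_iff.1 h).2 r

theorem gens_good : (goodM Xm && goodM Ym && goodM F0 && goodM Sg && goodM Wm && goodM idM) = true := by
  decide +kernel

theorem good_gen (k : ℕ) : goodM (gen k) = true := by
  have h := gens_good
  simp only [Bool.and_eq_true] at h
  obtain ⟨⟨⟨⟨⟨hX, hY⟩, hF⟩, -⟩, -⟩, -⟩ := h
  unfold gen
  cases Nat.beq k 0 <;> cases Nat.beq k 1 <;> assumption

theorem good_idM : goodM idM = true := by decide +kernel

theorem good_Sg : goodM Sg = true := by decide +kernel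

theorem good_comp {M N : List ℕ} (hM : goodM M = true) (hN : goodM N = true) : goodM (comp M N) = true := by
  refine goodM_iff.2 ⟨by rw [comp, List.length_map, (goodM_iff.1 hN).1], fun a ha => ?_⟩
  obtain ⟨b, -, rfl⟩ := List.mem_map.1 ha
  exact app_lt_of_good hM b

theorem good_code : ∀ w : List ℕ, goodM (code w) = true
  | [] => good_idM
  | k :: w => good_comp (good_gen k) (good_code w)

theorem app_two_pow : ∀ (M : List ℕ) (i : ℕ) (h : i < M.length), app M (2 ^ i) = M[i]
  | a :: M, 0, _ => by simp [app_cons, Rep.app_zero]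
  | a :: M, i + 1, h => by
    rw [app_cons, pow_succ, Nat.mul_div_cancel _ Nat.two_pos, app_two_pow M i,
      if_neg (by simp), Nat.zero_xor, List.getElem_cons_succ]

theorem inner_mem_all {M : List ℕ} (h : M ∈ innerGens) : M ∈ allGens := by
  simp only [innerGens, allGens, List.mem_cons, List.not_mem_nil, or_false] at h ⊢
  tauto

theorem gen_mem (k : ℕ) : gen k ∈ innerGens := by
  unfold gen innerGens
  cases Nat.beq k 0 <;> cases Nat.beq k 1 <;> simp

theorem exists_gen {M : List ℕ} (h : M ∈ innerGens) : ∃ k, gen k = M := by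
  simp only [innerGens, List.mem_cons, List.not_mem_nil, or_false] at h
  rcases h with rfl | rfl | rfl
  exacts [⟨0, rfl⟩, ⟨1, rfl⟩, ⟨2, rfl⟩]

theorem PActs.mul {B : List V} {γ δ : Equiv.Perm V} {M N : List ℕ} (h : PActs B γ M) (k : PActs B δ N) :
    PActs B (γ * δ) (comp M N) := fun r => by
  rw [Equiv.Perm.mul_apply, k, h]
  exact congrArg (lin B) (app_app M N r).symm

theorem gens_W : ([Xm, Ym, F0].all fun M => eqM (comp M Wm) (comp Wm M)) = true := by decide +kernel

theorem Sg_W : (eqM (comp Sg Sg) idM && !(eqM (comp Sg Wm) (comp Wm Sg))) = true := by decide +kernel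

theorem Sg_norm : (eqM (comp Sg (comp Xm Sg)) (code (List.replicate 10 0)) &&
    eqM (comp Sg (comp Ym Sg)) (code [1]) && eqM (comp Sg (comp F0 Sg)) (code [2])) = true := by
  decide +kernel

namespace Model

variable {B : List V} {Γ Γ₀ : Subgroup (Equiv.Perm V)} {q : V → ZMod 2} (hM : Model B Γ Γ₀ q)
include hM

theorem code_cases (v : V) : ∃ r < 4096, lin B r = v := by
  obtain ⟨r, hr⟩ := hM.bij.2 v
  exact ⟨r.1, r.2, hr⟩

theorem lin_inj {a b : ℕ} (ha : a < 4096) (hb : b < 4096) (h : lin B a = lin B b) : a = b :=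
  congrArg Fin.val (hM.bij.1 (a₁ := ⟨a, ha⟩) (a₂ := ⟨b, hb⟩) h)

theorem acts_idM : PActs B 1 idM := fun r => by
  have h : idM.map (lin B) = B := by
    refine List.ext_getElem (by simp [hM.len, idM]) fun i h1 h2 => ?_
    rw [List.getElem_map, show idM[i] = 2 ^ i from ?_, lin_two_pow B i h2]
    rw [hM.len] at h2
    interval_cases i <;> rfl
  rw [Equiv.Perm.one_apply, lin_app hM.two, h]

theorem acts_eq {γ δ : Equiv.Perm V} {M : List ℕ} (h : PActs B γ M) (k : PActs B δ M) : γ = δ :=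
  Equiv.ext fun v => by obtain ⟨r, -, rfl⟩ := hM.code_cases v; rw [h, k]

theorem code_unique {γ : Equiv.Perm V} {M N : List ℕ} (h : PActs B γ M) (k : PActs B γ N)
    (hm : goodM M = true) (hn : goodM N = true) : M = N := by
  refine List.ext_getElem ((goodM_iff.1 hm).1.trans (goodM_iff.1 hn).1.symm) fun i h1 h2 => ?_
  rw [← app_two_pow M i h1, ← app_two_pow N i h2]
  exact hM.lin_inj (app_lt_of_good hm _) (app_lt_of_good hn _) (by rw [← h, ← k])

theorem word (w : List ℕ) : ∃ γ ∈ Γ₀, PActs B γ (code w) := by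
  induction w with
  | nil => exact ⟨1, one_mem _, hM.acts_idM⟩
  | cons k w ih =>
    obtain ⟨δ, hδ, hd⟩ := ih
    obtain ⟨γ, hg⟩ := hM.ex _ (inner_mem_all (gen_mem k))
    exact ⟨γ * δ, mul_mem (hM.gen₀ ▸ subset_closure ⟨_, gen_mem k, hg⟩) hδ, hg.mul hd⟩

theorem le : Γ₀ ≤ Γ := by
  rw [hM.gen₀, hM.gen]
  exact closure_mono fun γ ⟨M, h, k⟩ => ⟨M, inner_mem_all h, k⟩

theorem fin : Finite V := Finite.of_surjective _ hM.bij.2

theorem mem_closure_gens {S : List (List ℕ)} {γ : Equiv.Perm V}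
    (h : γ ∈ closure {γ | ∃ M ∈ S, PActs B γ M}) :
    γ ∈ Submonoid.closure {γ | ∃ M ∈ S, PActs B γ M} := by
  have := hM.fin
  have h' : γ ∈ (closure {γ | ∃ M ∈ S, PActs B γ M}).toSubmonoid := h
  rwa [Subgroup.closure_toSubmonoid_of_finite] at h'

/-- Every element of the inner group has a code. -/
theorem exists_code₀ {γ : Equiv.Perm V} (h : γ ∈ Γ₀) : ∃ M, goodM M = true ∧ PActs B γ M := by
  rw [hM.gen₀] at h
  have h' := hM.mem_closure_gens h
  clear h
  induction h' using Submonoid.closure_induction with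
  | mem x hx =>
    obtain ⟨M, h, k⟩ := hx
    obtain ⟨j, rfl⟩ := exists_gen h
    exact ⟨_, good_gen j, k⟩
  | one => exact ⟨idM, good_idM, hM.acts_idM⟩
  | mul x y _ _ hx hy =>
    obtain ⟨M, hm, hx⟩ := hx
    obtain ⟨N, hn, hy⟩ := hy
    exact ⟨comp M N, good_comp hm hn, hx.mul hy⟩

/-- The scalar commutes with the inner group. -/
theorem commute_W {ω γ : Equiv.Perm V} (hω : PActs B ω Wm) (h : γ ∈ Γ₀) : γ * ω = ω * γ := by
  rw [hM.gen₀] at h
  induction h using Subgroup.closure_induction with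
  | mem x hx =>
    obtain ⟨M, h, k⟩ := hx
    exact hM.acts_eq (eqM_iff.1 (List.all_eq_true.1 gens_W M h) ▸ k.mul hω) (hω.mul k)
  | one => rw [one_mul, mul_one]
  | mul x y _ _ hx hy => exact (Commute.mul_left (show Commute x ω from hx) hy).eq
  | inv x _ hx => exact (Commute.inv_left (show Commute x ω from hx)).eq

/-- The semilinear element. -/
theorem exists_sigma : ∃ σ ∈ Γ, PActs B σ Sg := by
  obtain ⟨σ, h⟩ := hM.ex Sg (by simp [allGens])
  exact ⟨σ, hM.gen ▸ subset_closure ⟨Sg, by simp [allGens], h⟩, h⟩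

theorem sigma_sq {σ : Equiv.Perm V} (h : PActs B σ Sg) : σ * σ = 1 := by
  have e := Sg_W
  simp only [Bool.and_eq_true] at e
  exact hM.acts_eq (eqM_iff.1 e.1 ▸ h.mul h) hM.acts_idM

theorem sigma_conj {σ γ : Equiv.Perm V} (h : PActs B σ Sg) (hγ : γ ∈ Γ₀) : σ * γ * σ ∈ Γ₀ := by
  rw [hM.gen₀] at hγ
  have hγ' := hM.mem_closure_gens hγ
  clear hγ
  induction hγ' using Submonoid.closure_induction with
  | mem x hx =>
    obtain ⟨M, hm, k⟩ := hx
    have c : PActs B (σ * x * σ) (comp Sg (comp M Sg)) := by rw [mul_assoc]; exact h.mul (k.mul h)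
    have e := Sg_norm
    simp only [Bool.and_eq_true, eqM_iff] at e
    obtain ⟨w, hw⟩ : ∃ w, comp Sg (comp M Sg) = code w := by
      simp only [innerGens, List.mem_cons, List.not_mem_nil, or_false] at hm
      rcases hm with rfl | rfl | rfl
      exacts [⟨_, e.1.1⟩, ⟨_, e.1.2⟩, ⟨_, e.2⟩]
    obtain ⟨δ, hδ, hd⟩ := hM.word w
    have c' : PActs B (σ * x * σ) (code w) := hw ▸ c
    rwa [hM.acts_eq c' hd]
  | one => rw [mul_one, hM.sigma_sq h]; exact one_mem _
  | mul x y _ _ hx hy =>
    have := mul_mem hx hy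
    rwa [show σ * x * σ * (σ * y * σ) = σ * x * (σ * σ) * y * σ by group, hM.sigma_sq h, mul_one,
      show σ * x * y * σ = σ * (x * y) * σ by group] at this

theorem cases_mem {σ γ : Equiv.Perm V} (h : PActs B σ Sg) (hγ : γ ∈ Γ) :
    γ ∈ Γ₀ ∨ ∃ δ ∈ Γ₀, γ = σ * δ := by
  rw [hM.gen] at hγ
  have hγ' := hM.mem_closure_gens hγ
  clear hγ
  induction hγ' using Submonoid.closure_induction_left with
  | one => exact Or.inl (one_mem _)
  | mul_left x hx y _ ih =>
    obtain ⟨M, hm, k⟩ := hx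
    by_cases hi : M ∈ innerGens
    · have hx0 : x ∈ Γ₀ := hM.gen₀ ▸ subset_closure ⟨M, hi, k⟩
      rcases ih with hy | ⟨δ, hδ, rfl⟩
      · exact Or.inl (mul_mem hx0 hy)
      · refine Or.inr ⟨σ * x * σ * δ, mul_mem (hM.sigma_conj h hx0) hδ, ?_⟩
        rw [show σ * (σ * x * σ * δ) = σ * σ * x * σ * δ by group, hM.sigma_sq h, one_mul, mul_assoc]
    · have hMS : M = Sg := by
        simp only [allGens, innerGens, List.mem_cons, List.not_mem_nil, or_false] at hm hi
        tauto
      subst hMS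
      obtain rfl := hM.acts_eq k h
      rcases ih with hy | ⟨δ, hδ, rfl⟩
      · exact Or.inr ⟨y, hy, rfl⟩
      · refine Or.inl ?_
        rw [← mul_assoc, hM.sigma_sq h, one_mul]
        exact hδ

theorem sigma_not_mem {σ ω : Equiv.Perm V} (h : PActs B σ Sg) (hω : PActs B ω Wm) : σ ∉ Γ₀ := fun hs => by
  have e := Sg_W
  simp only [Bool.and_eq_true, Bool.not_eq_true', eqM] at e
  have hW : goodM Wm = true := by decide +kernel
  have := hM.code_unique (hM.commute_W hω hs ▸ h.mul hω) (hω.mul h) (good_comp good_Sg hW)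
    (good_comp hW good_Sg)
  rw [this, eqM_iff.2 rfl] at e
  exact Bool.noConfusion e.2

/-- Every element has a code. -/
theorem exists_code {γ : Equiv.Perm V} (h : γ ∈ Γ) : ∃ M, goodM M = true ∧ PActs B γ M := by
  obtain ⟨σ, -, hσ⟩ := hM.exists_sigma
  rcases hM.cases_mem hσ h with h0 | ⟨δ, hδ, rfl⟩
  · exact hM.exists_code₀ h0
  · obtain ⟨M, hm, hd⟩ := hM.exists_code₀ hδ
    exact ⟨comp Sg M, good_comp good_Sg hm, hσ.mul hd⟩

theorem additive {γ : Equiv.Perm V} {M : List ℕ} (h : PActs B γ M) (v w : V) :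
    γ (v + w) = γ v + γ w := by
  obtain ⟨a, -, rfl⟩ := hM.code_cases v
  obtain ⟨b, -, rfl⟩ := hM.code_cases w
  rw [← lin_xor hM.two, h, h, h, app_xor, lin_xor hM.two]

end Model

end Cfsg.Agent.J4Type.Orbits
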